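import Cfsg.Agent.S4106
import Cfsg.Agent.Lib.Solvable.NilpotentHall
import Cfsg.Agent.EqLemmas

/-
Counting classes of elements whose order involves given primes only.

* `k s G`, `part s G`
* `k_insert_le` : splitting off the `p`-parts
* `card_image_conj_le` : classes meeting a subgroup normalised by `n`
-/

set_option autoImplicit false
set_option linter.style.haveILetI false
set_option linter.unusedSectionVars false

open Subgroup

namespace Cfsg.Agent.PiClassCount

open Cfsg.Agent.S4106 (PiClass)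

universe u

variable {G : Type u} [Group G] [Finite G]

/-- The number of classes of elements with all prime divisors of the order in `s`. -/
noncomputable def k (s : Finset ℕ) (G : Type u) [Group G] : ℕ := Nat.card (PiClass s G)

/-- The `s`-part of the order. -/
noncomputable def part (s : Finset ℕ) (G : Type u) : ℕ := ∏ q ∈ s, q ^ (Nat.card G).factorization q

theorem k_le_part {s : Finset ℕ} (hs : ∀ q ∈ s, q.Prime) : k s G ≤ part s G := S4106.bound s hs G

theorem part_pos {s : Finset ℕ} (hs : ∀ q ∈ s, q.Prime) : 0 < part s G :=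
  Finset.prod_pos fun q hq => pow_pos (hs q hq).pos _

theorem part_dvd {s : Finset ℕ} (hs : ∀ q ∈ s, q.Prime) : part s G ∣ Nat.card G :=
  Finset.prod_dvd_of_isRelPrime (fun a ha b hb hab =>
    Nat.coprime_iff_isRelPrime.1 (((Nat.coprime_primes (hs a ha) (hs b hb)).2 hab).pow _ _))
    fun q _ => Nat.ordProj_dvd _ _

theorem prime_dvd_part {s : Finset ℕ} (hs : ∀ q ∈ s, q.Prime) {r : ℕ} (hr : r.Prime) (h : r ∣ part s G) :
    r ∈ s := by
  obtain ⟨q, hq, hd⟩ := (hr.prime.dvd_finsetProd_iff _).1 h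
  rw [(Nat.prime_dvd_prime_iff_eq hr (hs q hq)).1 (hr.dvd_of_dvd_pow hd)]
  exact hq

theorem part_subgroup_dvd {s : Finset ℕ} (H : Subgroup G) : part s H ∣ part s G :=
  Finset.prod_dvd_prod_of_dvd _ _ fun q _ => by
    by_cases hq : q.Prime
    · exact pow_dvd_pow q ((Nat.factorization_le_iff_dvd Nat.card_pos.ne' Nat.card_pos.ne').2
        (card_subgroup_dvd_card H) q)
    · simp [Nat.factorization_eq_zero_of_not_prime _ hq]

/-- A subgroup of order `part s G` is a Hall subgroup. -/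
theorem isPiHall_of_card {s : Finset ℕ} (hs : ∀ q ∈ s, q.Prime) {H : Subgroup G}
    (hH : Nat.card H = part s G) : Cfsg.IsPiHall (s : Set ℕ) H := by
  refine ⟨fun r hr hd => prime_dvd_part hs hr (hH ▸ hd), fun r hr hrs hd => ?_⟩
  have h1 : r ^ (Nat.card G).factorization r ∣ Nat.card H := hH ▸ Finset.dvd_prod_of_mem _ hrs
  have h2 : r ^ ((Nat.card G).factorization r + 1) ∣ Nat.card G := by
    rw [pow_succ]
    exact (Nat.mul_dvd_mul h1 hd).trans (dvd_of_eq H.card_mul_index)
  have := (hr.pow_dvd_iff_le_factorization Nat.card_pos.ne').1 h2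
  omega

theorem not_dvd_index_of_card {s : Finset ℕ} (hs : ∀ q ∈ s, q.Prime) {H : Subgroup G}
    (hH : Nat.card H = part s G) {r : ℕ} (hr : r ∈ s) : ¬ r ∣ H.index :=
  (isPiHall_of_card hs hH).2 r (hs r hr) hr

/-- Splitting a class along the `p`-part of its elements. -/
theorem k_insert_le {p : ℕ} [Fact p.Prime] {t : Finset ℕ} (R : Finset G)
    (hR : ∀ a : G, (∃ i, orderOf a = p ^ i) → ∃ x ∈ R, IsConj a x) :
    k (insert p t) G ≤ ∑ x ∈ R, k t (Subgroup.centralizer ({x} : Set G)) := by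
  classical
  have hdec : ∀ C : PiClass (insert p t) G, ∃ x : R, ∃ y : Subgroup.centralizer ({(x : G)} : Set G),
      (orderOf y).primeFactors ⊆ t ∧ ConjClasses.mk ((x : G) * (y : G)) = C.1 := by
    rintro ⟨C, hC⟩
    obtain ⟨g, rfl⟩ := ConjClasses.mk_surjective C
    obtain ⟨x, y, hxy, hx, hy, hxk, hyp⟩ := Cfsg.Agent.Transfer.exists_pPart_mul (p := p) g
    obtain ⟨x', hx', hconj⟩ := hR x hxk
    obtain ⟨a, ha⟩ := isConj_iff.1 hconj
    refine ⟨⟨x', hx'⟩, ?_⟩
    have hcomm : x * y = y * x := by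
      obtain ⟨i, rfl⟩ := hx
      obtain ⟨j, rfl⟩ := hy
      exact (Commute.zpow_zpow_self g i j).eq
    refine ⟨⟨a * y * a⁻¹, Subgroup.mem_centralizer_singleton_iff.2 ?_⟩, ?_, ?_⟩
    · show a * y * a⁻¹ * x' = x' * (a * y * a⁻¹)
      rw [← ha]
      calc a * y * a⁻¹ * (a * x * a⁻¹) = a * (y * x) * a⁻¹ := by group
        _ = a * (x * y) * a⁻¹ := by rw [hcomm]
        _ = _ := by group
    · rw [Subgroup.orderOf_mk, show a * y * a⁻¹ = MulAut.conj a y from rfl, MulEquiv.orderOf_eq]
      intro q hq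
      obtain ⟨hq1, hq2, -⟩ := Nat.mem_primeFactors.1 hq
      rcases Finset.mem_insert.1 (hC g rfl (Nat.mem_primeFactors.2
        ⟨hq1, hq2.trans (orderOf_dvd_of_mem_zpowers hy), (orderOf_pos g).ne'⟩)) with e | e
      · subst e
        exact absurd hyp (Nat.not_coprime_of_dvd_of_dvd hq1.one_lt hq2 (dvd_refl q))
      · exact e
    · rw [ConjClasses.mk_eq_mk_iff_isConj]
      refine (isConj_iff.2 ⟨a, ?_⟩).symm
      show a * g * a⁻¹ = x' * (a * y * a⁻¹)
      rw [← ha, hxy]
      group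
  choose c y hy hmk using hdec
  let f : PiClass (insert p t) G → (Σ x : R, PiClass t (Subgroup.centralizer ({(x : G)} : Set G))) :=
    fun C => ⟨c C, ConjClasses.mk (y C), fun g hg => by
      obtain ⟨b, hb⟩ := isConj_iff.1 (ConjClasses.mk_eq_mk_iff_isConj.1 hg.symm)
      rw [← hb, show b * y C * b⁻¹ = MulAut.conj b (y C) from rfl, MulEquiv.orderOf_eq]
      exact hy C⟩
  have hf : Function.Injective f := by
    intro C D h
    have key : ∀ (c₁ c₂ : R) (y₁ : Subgroup.centralizer ({(c₁ : G)} : Set G))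
        (y₂ : Subgroup.centralizer ({(c₂ : G)} : Set G)) (h₁ : _) (h₂ : _),
        (⟨c₁, ⟨ConjClasses.mk y₁, h₁⟩⟩ : Σ x : R, PiClass t (Subgroup.centralizer ({(x : G)} : Set G))) =
          ⟨c₂, ⟨ConjClasses.mk y₂, h₂⟩⟩ →
        ConjClasses.mk ((c₁ : G) * (y₁ : G)) = ConjClasses.mk ((c₂ : G) * (y₂ : G)) := by
      intro c₁ c₂ y₁ y₂ h₁ h₂ e
      obtain rfl : c₁ = c₂ := congrArg Sigma.fst e
      obtain ⟨b, hb⟩ := isConj_iff.1 (ConjClasses.mk_eq_mk_iff_isConj.1
        (congrArg Subtype.val (eq_of_heq (Sigma.mk.inj_iff.1 e).2)))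
      rw [ConjClasses.mk_eq_mk_iff_isConj, isConj_iff]
      refine ⟨(b : G), ?_⟩
      have hb' : (b : G) * (c₁ : G) = (c₁ : G) * b := Subgroup.mem_centralizer_singleton_iff.1 b.2
      rw [← hb]
      calc (b : G) * ((c₁ : G) * y₁) * (b : G)⁻¹ = ((b : G) * c₁) * y₁ * (b : G)⁻¹ := by group
        _ = ((c₁ : G) * b) * y₁ * (b : G)⁻¹ := by rw [hb']
        _ = (c₁ : G) * ((b : G) * y₁ * (b : G)⁻¹) := by group
    have := key _ _ _ _ _ _ h
    rw [hmk, hmk] at this
    exact Subtype.ext this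
  refine (Nat.card_le_card_of_injective f hf).trans ?_
  rw [Nat.card_sigma, Finset.sum_coe_sort R fun x => Nat.card (PiClass t (Subgroup.centralizer ({x} : Set G)))]
  exact le_rfl

/-- A non-fixed point of conjugation by `n` has an orbit of size at least `e`. -/
theorem orbit_ge {n y : G} {e : ℕ} (he : ∀ d, d ∣ orderOf n → d ≠ 1 → e ≤ d) (h : ¬ Commute n y) :
    ∃ S : Finset G, e ≤ S.card ∧ ∀ z ∈ S, ∃ i : ℕ, z = n ^ i * y * (n ^ i)⁻¹ := by
  classical
  set f : G → G := fun z => n * z * n⁻¹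
  have hit : ∀ i : ℕ, f^[i] y = n ^ i * y * (n ^ i)⁻¹ := by
    intro i
    induction i with
    | zero => simp
    | succ i ih =>
      rw [Function.iterate_succ_apply', ih]
      simp only [f, pow_succ', mul_inv_rev]
      group
  set d := Function.minimalPeriod f y
  have hd : d ∣ orderOf n := Function.IsPeriodicPt.minimalPeriod_dvd (by
    show f^[orderOf n] y = y
    rw [hit, pow_orderOf_eq_one]; simp)
  have hd1 : d ≠ 1 := fun h1 => h (by
    have := Function.minimalPeriod_eq_one_iff_isFixedPt.1 h1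
    exact mul_inv_eq_iff_eq_mul.1 this)
  refine ⟨(Finset.range d).image fun i => f^[i] y, ?_, ?_⟩
  · rw [Finset.card_image_of_injOn, Finset.card_range]
    · exact he d hd hd1
    · intro a ha b hb hab
      exact Function.iterate_injOn_Iio_minimalPeriod (Finset.mem_range.1 ha) (Finset.mem_range.1 hb) hab
  · intro z hz
    obtain ⟨i, -, rfl⟩ := Finset.mem_image.1 hz
    exact ⟨i, hit i⟩

theorem conj_pow_mem {L : Subgroup G} {n y : G} (hn : n ∈ normalizer (L : Set G)) (hy : y ∈ L) (i : ℕ) :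
    n ^ i * y * (n ^ i)⁻¹ ∈ L :=
  (mem_normalizer_iff.1 (pow_mem hn i) y).1 hy

/-- The classes meeting a subgroup normalised by `n`. -/
theorem card_image_conj_le (L : Subgroup G) {n : G} (hn : n ∈ normalizer (L : Set G)) {e : ℕ} (he1 : 1 ≤ e)
    (he : ∀ d, d ∣ orderOf n → d ≠ 1 → e ≤ d) :
    e * (ConjClasses.mk '' (L : Set G)).ncard ≤
      Nat.card L + (e - 1) * Nat.card (L ⊓ centralizer ({n} : Set G) : Subgroup G) := by
  classical
  haveI := Fintype.ofFinite G
  set F := Finset.univ.filter fun g : G => g ∈ L ∧ Commute n g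
  set E := Finset.univ.filter fun g : G => g ∈ L ∧ ¬ Commute n g
  have hLcard : Nat.card L = F.card + E.card := by
    rw [← Finset.card_union_of_disjoint (Finset.disjoint_filter.2 fun g _ h1 h2 => h2.2 h1.2),
      Nat.card_eq_fintype_card, ← Fintype.card_coe]
    refine Fintype.card_congr (Equiv.subtypeEquivRight fun g => ?_)
    simp only [F, E, Finset.mem_union, Finset.mem_filter, Finset.mem_univ, true_and]
    tauto
  have hFcard : Nat.card (L ⊓ centralizer ({n} : Set G) : Subgroup G) = F.card := by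
    rw [Nat.card_eq_fintype_card, ← Fintype.card_coe]
    refine Fintype.card_congr (Equiv.subtypeEquivRight fun g => ?_)
    simp only [F, Finset.mem_filter, Finset.mem_univ, true_and, mem_inf]
    exact and_congr_right fun _ => ⟨fun h => (mem_centralizer_singleton_iff.1 h).symm,
      fun h => mem_centralizer_singleton_iff.2 h.symm⟩
  have hsub : (ConjClasses.mk '' (L : Set G)) ⊆ ↑(F.image ConjClasses.mk ∪ E.image ConjClasses.mk) := by
    rintro _ ⟨g, hg, rfl⟩
    rw [Finset.coe_union]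
    by_cases h : Commute n g
    · exact .inl (Finset.mem_coe.2 (Finset.mem_image_of_mem _ (Finset.mem_filter.2 ⟨Finset.mem_univ _, hg, h⟩)))
    · exact .inr (Finset.mem_coe.2 (Finset.mem_image_of_mem _ (Finset.mem_filter.2 ⟨Finset.mem_univ _, hg, h⟩)))
  have h1 : (ConjClasses.mk '' (L : Set G)).ncard ≤ F.card + (E.image ConjClasses.mk).card := by
    refine (Set.ncard_le_ncard hsub (Finset.finite_toSet _)).trans ?_
    rw [Set.ncard_coe_finset]
    exact (Finset.card_union_le _ _).trans (Nat.add_le_add_right Finset.card_image_le _)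
  have h2 : e * (E.image ConjClasses.mk).card ≤ E.card := by
    rw [mul_comm, Finset.card_eq_sum_card_image ConjClasses.mk E]
    refine Finset.card_nsmul_le_sum _ _ _ fun c hc => ?_
    obtain ⟨y, hy, rfl⟩ := Finset.mem_image.1 hc
    obtain ⟨-, hyL, hyn⟩ := Finset.mem_filter.1 hy
    obtain ⟨S, hS, hSc⟩ := orbit_ge he hyn
    refine hS.trans (Finset.card_le_card fun z hz => ?_)
    obtain ⟨i, rfl⟩ := hSc z hz
    refine Finset.mem_filter.2 ⟨Finset.mem_filter.2 ⟨Finset.mem_univ _, conj_pow_mem hn hyL i, fun hcm => hyn ?_⟩,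
      ConjClasses.mk_eq_mk_iff_isConj.2 (isConj_iff.2 ⟨(n ^ i)⁻¹, by group⟩)⟩
    have h3 := ((((Commute.refl n).pow_right i).inv_right).mul_right hcm).mul_right ((Commute.refl n).pow_right i)
    simpa [mul_assoc] using h3
  obtain ⟨e', rfl⟩ : ∃ e', e = e' + 1 := ⟨e - 1, by omega⟩
  rw [hLcard, hFcard, Nat.add_sub_cancel]
  calc (e' + 1) * (ConjClasses.mk '' (L : Set G)).ncard ≤ (e' + 1) * (F.card + (E.image ConjClasses.mk).card) :=
        Nat.mul_le_mul_left _ h1
    _ ≤ _ := by rw [mul_add]; nlinarith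

/-- With a nilpotent Hall subgroup, the classes are those meeting it. -/
theorem k_le_image {s : Finset ℕ} {L : Subgroup G} (hL : Group.IsNilpotent L)
    (hHall : Cfsg.IsPiHall (s : Set ℕ) L) : k s G ≤ (ConjClasses.mk '' (L : Set G)).ncard := by
  rw [← Nat.card_coe_set_eq]
  refine Nat.card_le_card_of_injective
    (fun C : PiClass s G => (⟨C.1, ?_⟩ : (ConjClasses.mk '' (L : Set G) : Set _))) ?_
  · obtain ⟨g, hg⟩ := ConjClasses.mk_surjective C.1
    obtain ⟨x, hx⟩ := Solvable.exists_conj_ge_of_nilpotent_hall hL hHall (K := zpowers g) fun r hr hd => by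
      rw [Nat.card_zpowers] at hd
      exact C.2 g hg (Nat.mem_primeFactors.2 ⟨hr, hd, (orderOf_pos g).ne'⟩)
    obtain ⟨l, hl, hlg⟩ := hx (mem_zpowers g)
    exact ⟨l, hl, hg ▸ ConjClasses.mk_eq_mk_iff_isConj.2 (isConj_iff.2 ⟨x, hlg⟩)⟩
  · intro C D h
    exact Subtype.ext (congrArg (fun z : (ConjClasses.mk '' (L : Set G) : Set _) => z.1) h)

/-- A proper subgroup of a group all of whose primes are at least `r`. -/
theorem mul_card_le_of_lt {F L : Subgroup G} (hFL : F ≤ L) (hne : ¬ L ≤ F) {r : ℕ}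
    (hr : ∀ q : ℕ, q.Prime → q ∣ Nat.card L → r ≤ q) : r * Nat.card F ≤ Nat.card L := by
  have h1 : Nat.card F * F.relIndex L = Nat.card L := by
    rw [← Nat.card_congr (subgroupOfEquivOfLe hFL).toEquiv]
    exact card_mul_index _
  obtain ⟨q, hq, hqd⟩ := Nat.exists_prime_and_dvd (fun h => hne (relIndex_eq_one.1 h) : F.relIndex L ≠ 1)
  have h2 : r ≤ F.relIndex L := (hr q hq (hqd.trans (index_dvd_card _))).trans
    (Nat.le_of_dvd (Nat.pos_of_ne_zero index_ne_zero_of_finite) hqd)
  calc r * Nat.card F ≤ F.relIndex L * Nat.card F := Nat.mul_le_mul_right _ h2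
    _ = _ := by rw [mul_comm]; exact h1

end Cfsg.Agent.PiClassCount
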