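import Cfsg.Agent.Lib.PiClassCount.Count
import Cfsg.Agent.Lib.ClassSizeGraph.Burnside
import Cfsg.Agent.Lib.Solvable.Maximal
import Cfsg.Agent.Lib.Coprime.Invariant
import Cfsg.Agent.EqLemmas

/-
Many classes of `π`-elements force a nilpotent Hall `π`-subgroup.

* `master` : the counting inequality
* `exists_nilpotent_hall` : if `|G|_π < p k_π(G)` for a lower bound `p` of `π`
-/

set_option autoImplicit false
set_option linter.style.haveILetI false
set_option linter.unusedSectionVars false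

open Subgroup
open scoped Pointwise

namespace Cfsg.Agent.PiClassCount

open Cfsg.Agent.ClassSizeGraph (Burn)

universe u

variable {G : Type u} [Group G] [Finite G]

theorem mem_normalizer_of_conj {H : Subgroup G} {g : G} (h : ∀ x ∈ H, g * x * g⁻¹ ∈ H) :
    g ∈ normalizer (H : Set G) := by
  have heq : MulAut.conj g • H = H := eq_of_le_of_card_ge (fun _ ⟨x, hx, e⟩ => e ▸ h x hx)
    (le_of_eq (Nat.card_congr (Subgroup.equivSMul (MulAut.conj g) H).toEquiv))
  refine mem_normalizer_iff.2 fun x => ⟨h x, fun hx => ?_⟩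
  obtain ⟨y, hy, hyx⟩ := (heq.symm ▸ hx : g * x * g⁻¹ ∈ MulAut.conj g • H)
  exact (MulAut.conj g).injective hyx ▸ hy

/-- The counting inequality. -/
theorem master {p : ℕ} [Fact p.Prime] {t : Finset ℕ} {r e : ℕ} {D P : Subgroup G} (hDP : D ≤ P)
    (hP : ∀ a : G, (∃ i, orderOf a = p ^ i) → ∃ x ∈ P, IsConj a x) {m : ℕ}
    (hout : ∀ x ∈ P, (∀ y ∈ D, ¬ IsConj x y) → r * k t (centralizer ({x} : Set G)) ≤ m)
    (hin : ∀ x ∈ D, e * r * k t (centralizer ({x} : Set G)) ≤
      e * m + (r - 1) * m * {y : G | y ∈ D ∧ IsConj x y}.ncard) :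
    e * r * k (insert p t) G ≤ e * m * (ConjClasses.mk '' (P : Set G)).ncard + (r - 1) * m * Nat.card D := by
  classical
  haveI := Fintype.ofFinite G
  have hrep : ∀ c : ConjClasses G, ∃ x : G, c ∈ ConjClasses.mk '' (P : Set G) →
      ConjClasses.mk x = c ∧ x ∈ P ∧ ∀ y ∈ D, IsConj x y → x ∈ D := by
    intro c
    by_cases hc : c ∈ ConjClasses.mk '' (P : Set G)
    · obtain ⟨x, hx, rfl⟩ := hc
      by_cases hxD : ∃ y ∈ D, IsConj x y
      · obtain ⟨y, hy, hxy⟩ := hxD
        exact ⟨y, fun _ => ⟨(ConjClasses.mk_eq_mk_iff_isConj.2 hxy).symm, hDP hy, fun _ _ _ => hy⟩⟩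
      · exact ⟨x, fun _ => ⟨rfl, hx, fun y hy hxy => (hxD ⟨y, hy, hxy⟩).elim⟩⟩
    · exact ⟨1, fun h => absurd h hc⟩
  choose rep hrep using hrep
  set T := (Set.toFinite (ConjClasses.mk '' (P : Set G))).toFinset with hT
  have hmem : ∀ {c}, c ∈ T → c ∈ ConjClasses.mk '' (P : Set G) := fun h => (Set.Finite.mem_toFinset _).1 h
  have hinj : ∀ a ∈ T, ∀ b ∈ T, rep a = rep b → a = b := fun a ha b hb h => by
    rw [← (hrep a (hmem ha)).1, ← (hrep b (hmem hb)).1, h]
  set R := T.image rep
  have hk : k (insert p t) G ≤ ∑ x ∈ R, k t (centralizer ({x} : Set G)) := by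
    refine k_insert_le R fun a ha => ?_
    obtain ⟨x, hx, hax⟩ := hP a ha
    have hc : ConjClasses.mk x ∈ T := (Set.Finite.mem_toFinset _).2 ⟨x, hx, rfl⟩
    exact ⟨rep (ConjClasses.mk x), Finset.mem_image_of_mem _ hc,
      hax.trans (ConjClasses.mk_eq_mk_iff_isConj.1 (hrep _ (hmem hc)).1.symm)⟩
  set DF := Finset.univ.filter fun y : G => y ∈ D with hDF
  have hfib : ∀ x : G, {y : G | y ∈ D ∧ IsConj x y}.ncard = (DF.filter fun y => IsConj x y).card := fun x => by
    rw [← Set.ncard_coe_finset]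
    congr 1
    ext y
    simp [hDF]
  have hb : ∀ x ∈ R, e * r * k t (centralizer ({x} : Set G)) ≤
      e * m + (r - 1) * m * (DF.filter fun y => IsConj x y).card := by
    intro x hx
    obtain ⟨c, hc, rfl⟩ := Finset.mem_image.1 hx
    obtain ⟨-, hxP, hxD⟩ := hrep c (hmem hc)
    by_cases h : rep c ∈ D
    · rw [← hfib]; exact hin _ h
    · calc e * r * k t (centralizer ({rep c} : Set G)) = e * (r * k t (centralizer ({rep c} : Set G))) := by ring
        _ ≤ e * m := Nat.mul_le_mul_left _ (hout _ hxP fun y hy hxy => h (hxD y hy hxy))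
        _ ≤ _ := Nat.le_add_right _ _
  have hsum : ∑ x ∈ R, (DF.filter fun y => IsConj x y).card ≤ Nat.card D := by
    rw [← Finset.card_biUnion]
    · refine (Finset.card_le_card (Finset.biUnion_subset.2 fun x _ => Finset.filter_subset _ _)).trans (le_of_eq ?_)
      rw [Nat.card_eq_fintype_card, Fintype.card_subtype]
    · intro a ha b hb hab
      obtain ⟨c, hc, rfl⟩ := Finset.mem_image.1 ha
      obtain ⟨c', hc', rfl⟩ := Finset.mem_image.1 hb
      refine Finset.disjoint_left.2 fun y hy hy' => hab ?_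
      have e1 := ConjClasses.mk_eq_mk_iff_isConj.2 (Finset.mem_filter.1 hy).2
      have e2 := ConjClasses.mk_eq_mk_iff_isConj.2 (Finset.mem_filter.1 hy').2
      rw [(hrep c (hmem hc)).1] at e1
      rw [(hrep c' (hmem hc')).1] at e2
      rw [e1, e2]
  have hR : R.card = (ConjClasses.mk '' (P : Set G)).ncard := by
    rw [Finset.card_image_of_injOn hinj, Set.ncard_eq_toFinset_card _ (Set.toFinite _)]
  calc e * r * k (insert p t) G ≤ e * r * ∑ x ∈ R, k t (centralizer ({x} : Set G)) := Nat.mul_le_mul_left _ hk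
    _ = ∑ x ∈ R, e * r * k t (centralizer ({x} : Set G)) := Finset.mul_sum _ _ _
    _ ≤ ∑ x ∈ R, (e * m + (r - 1) * m * (DF.filter fun y => IsConj x y).card) := Finset.sum_le_sum hb
    _ = R.card * (e * m) + (r - 1) * m * ∑ x ∈ R, (DF.filter fun y => IsConj x y).card := by
        rw [Finset.sum_add_distrib, Finset.sum_const, smul_eq_mul, Finset.mul_sum]
    _ ≤ R.card * (e * m) + (r - 1) * m * Nat.card D := Nat.add_le_add_left (Nat.mul_le_mul_left _ hsum) _
    _ = _ := by rw [hR, mul_comm _ (e * m)]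

/-- The classes in the centralizer of an element commuting with a Hall subgroup and with `n`. -/
theorem k_cent_le {t : Finset ℕ} (ht : ∀ q ∈ t, q.Prime) {H : Subgroup G} (hH : Group.IsNilpotent H)
    (hcard : Nat.card H = part t G) {x n : G} (hx : x ∈ centralizer (H : Set G)) (hnx : Commute n x)
    (hn : n ∈ normalizer (H : Set G)) {e : ℕ} (he1 : 1 ≤ e) (he : ∀ d, d ∣ orderOf n → d ≠ 1 → e ≤ d) :
    e * k t (centralizer ({x} : Set G)) ≤
      part t G + (e - 1) * Nat.card (H ⊓ centralizer ({n} : Set G) : Subgroup G) := by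
  set Γ := centralizer ({x} : Set G)
  have hle : H ≤ Γ := fun h hh => mem_centralizer_singleton_iff.2 (mem_centralizer_iff.1 hx h hh)
  set L : Subgroup Γ := H.subgroupOf Γ
  haveI := hH
  have hLn : Group.IsNilpotent L :=
    Group.nilpotent_of_surjective (subgroupOfEquivOfLe hle).symm.toMonoidHom (subgroupOfEquivOfLe hle).symm.surjective
  have hLc : Nat.card L = part t G := (Nat.card_congr (subgroupOfEquivOfLe hle).toEquiv).trans hcard
  have hHall : Cfsg.IsPiHall (t : Set ℕ) L := by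
    obtain ⟨h1, h2⟩ := isPiHall_of_card ht hcard
    refine ⟨fun q hq hd => h1 q hq (by rwa [hcard, ← hLc]), fun q hq hqt hd => h2 q hq hqt ?_⟩
    exact hd.trans (relIndex_dvd_index_of_le hle)
  have hnΓ : n ∈ Γ := mem_centralizer_singleton_iff.2 hnx.eq
  have hnL : (⟨n, hnΓ⟩ : Γ) ∈ normalizer (L : Set Γ) := by
    rw [mem_normalizer_iff]
    intro y
    simp only [L, mem_subgroupOf, SetLike.mem_coe, Subgroup.coe_mul, Subgroup.coe_inv]
    exact mem_normalizer_iff.1 hn y
  have key := card_image_conj_le L hnL he1 (fun d hd => he d (by rwa [Subgroup.orderOf_mk] at hd))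
  refine (Nat.mul_le_mul_left e (k_le_image hLn hHall)).trans (key.trans ?_)
  rw [hLc]
  refine Nat.add_le_add_left (Nat.mul_le_mul_left _ ?_) _
  refine Nat.card_le_card_of_injective (fun y => (⟨((y.1 : Γ) : G), y.2.1,
    mem_centralizer_singleton_iff.2 (congrArg Subtype.val (mem_centralizer_singleton_iff.1 y.2.2))⟩ :
      (H ⊓ centralizer ({n} : Set G) : Subgroup G))) (Function.Injective.of_comp (f := Subtype.val) ?_)
  intro a b h
  exact Subtype.ext (Subtype.ext h)

/-- An element of `H`-class weight bounded through `n`. -/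
theorem hin_of_normalizing {t : Finset ℕ} (ht : ∀ q ∈ t, q.Prime) {H D : Subgroup G} (hH : Group.IsNilpotent H)
    (hcard : Nat.card H = part t G) (hD : D ≤ centralizer (H : Set G)) {r : ℕ} (hr1 : 1 ≤ r)
    (hr : ∀ q ∈ t, r ≤ q) {n : G} (hnH : n ∈ normalizer (H : Set G)) (hnD : n ∈ normalizer (D : Set G))
    (hn : n ∉ centralizer (H : Set G)) {e : ℕ} (he1 : 1 ≤ e) (he : ∀ d, d ∣ orderOf n → d ≠ 1 → e ≤ d)
    {x : G} (hx : x ∈ D) : e * r * k t (centralizer ({x} : Set G)) ≤
      e * part t G + (r - 1) * part t G * {y : G | y ∈ D ∧ IsConj x y}.ncard := by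
  set m := part t G
  obtain ⟨r', rfl⟩ : ∃ r', r = r' + 1 := ⟨r - 1, by omega⟩
  obtain ⟨e', rfl⟩ : ∃ e', e = e' + 1 := ⟨e - 1, by omega⟩
  rw [Nat.add_sub_cancel]
  have hfib : 1 ≤ {y : G | y ∈ D ∧ IsConj x y}.ncard := (Set.ncard_pos (Set.toFinite _)).2 ⟨x, hx, IsConj.refl x⟩
  by_cases hnx : Commute n x
  · have h1 := k_cent_le ht hH hcard (hD hx) hnx hnH he1 he
    rw [Nat.add_sub_cancel] at h1
    have h2 : (r' + 1) * Nat.card (H ⊓ centralizer ({n} : Set G) : Subgroup G) ≤ m := by
      refine (mul_card_le_of_lt inf_le_left (fun h => hn ?_) fun q hq hd =>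
        hr q (prime_dvd_part ht hq (hcard ▸ hd))).trans_eq hcard
      exact mem_centralizer_iff.2 fun y hy => mem_centralizer_singleton_iff.1 (h hy).2
    set F := Nat.card (H ⊓ centralizer ({n} : Set G) : Subgroup G)
    set K := k t (centralizer ({x} : Set G))
    set f := {y : G | y ∈ D ∧ IsConj x y}.ncard
    have h3 : r' * m ≤ r' * m * f := Nat.le_mul_of_pos_right _ hfib
    have h4 : (r' + 1) * ((e' + 1) * K) ≤ (r' + 1) * (m + e' * F) := Nat.mul_le_mul_left _ h1
    have h5 : e' * ((r' + 1) * F) ≤ e' * m := Nat.mul_le_mul_left _ h2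
    nlinarith
  · obtain ⟨S, hS, hSc⟩ := orbit_ge he hnx
    have h1 : e' + 1 ≤ {y : G | y ∈ D ∧ IsConj x y}.ncard := by
      refine hS.trans ?_
      rw [← Set.ncard_coe_finset]
      refine Set.ncard_le_ncard (fun z hz => ?_) (Set.toFinite _)
      obtain ⟨i, rfl⟩ := hSc z (Finset.mem_coe.1 hz)
      exact ⟨conj_pow_mem hnD hx i, isConj_iff.2 ⟨n ^ i, rfl⟩⟩
    have h2 : k t (centralizer ({x} : Set G)) ≤ m := (k_le_part ht).trans
      (Nat.le_of_dvd (part_pos ht) (part_subgroup_dvd _))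
    have h3 : (e' + 1) * (r' + 1) * k t (centralizer ({x} : Set G)) ≤ (e' + 1) * (r' + 1) * m :=
      Nat.mul_le_mul_left _ h2
    have h4 : r' * m * (e' + 1) ≤ r' * m * {y : G | y ∈ D ∧ IsConj x y}.ncard := Nat.mul_le_mul_left _ h1
    nlinarith

/-- A group with all primes of `t` `Burn` and a centralised `D` of index `p`: no such configuration. -/
theorem central_case {p : ℕ} [Fact p.Prime] {t : Finset ℕ} (ht : ∀ q ∈ t, q.Prime) (hpt : ∀ q ∈ t, p < q)
    {H D : Subgroup G} (hH : Group.IsNilpotent H) (hcard : Nat.card H = part t G)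
    (hD : D ≤ centralizer (H : Set G)) (hDp : IsPGroup p D)
    (hmax : ∀ U : Subgroup G, U ≤ centralizer (H : Set G) → IsPGroup p U → Nat.card U ≤ Nat.card D)
    (hidx : ∀ S : Sylow p G, Nat.card (S : Subgroup G) = p * Nat.card D)
    (hN : normalizer (H : Set G) ≤ centralizer (H : Set G)) : False := by
  classical
  have hp : p.Prime := Fact.out
  have hnot : p ∉ t := fun h => lt_irrefl p (hpt p h)
  haveI := hH
  have hb : ∀ q ∈ t, Burn G q := by
    intro q hq
    haveI := Fact.mk (ht q hq)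
    obtain ⟨Q, hQ⟩ := Solvable.exists_sylow_le_of_isPiHall (isPiHall_of_card ht hcard) (Finset.mem_coe.2 hq)
    refine ⟨Q, fun n hn => ?_⟩
    -- `H` centralises `Q`, as `H` is abelian
    have hHC : H ≤ centralizer ((Q : Subgroup G) : Set G) := fun h hh => mem_centralizer_iff.2 fun y hy =>
      (mem_centralizer_iff.1 (hN (le_normalizer (hQ hy))) h hh).symm
    set C := centralizer ((Q : Subgroup G) : Set G)
    have hHC' : MulAut.conj n • H ≤ C := by
      rintro _ ⟨h, hh, rfl⟩
      refine mem_centralizer_iff.2 fun y hy => ?_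
      have e : (n⁻¹ * y * n) * h = h * (n⁻¹ * y * n) :=
        mem_centralizer_iff.1 (hHC hh) _ (by
          have := (mem_normalizer_iff.1 (inv_mem hn) y).1 hy
          rwa [inv_inv] at this)
      show y * (n * h * n⁻¹) = n * h * n⁻¹ * y
      calc y * (n * h * n⁻¹) = n * ((n⁻¹ * y * n) * h) * n⁻¹ := by group
        _ = n * (h * (n⁻¹ * y * n)) * n⁻¹ := by rw [e]
        _ = _ := by group
    have e1 := Nat.card_congr (subgroupOfEquivOfLe hHC).toEquiv
    obtain ⟨c, hc⟩ := Solvable.exists_conj_ge_of_nilpotent_hall (π := (t : Set ℕ)) (H := H.subgroupOf C)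
      (K := (MulAut.conj n • H).subgroupOf C)
      (Group.nilpotent_of_surjective (subgroupOfEquivOfLe hHC).symm.toMonoidHom (subgroupOfEquivOfLe hHC).symm.surjective)
      ⟨fun s hs hd => (isPiHall_of_card ht hcard).1 s hs (e1 ▸ hd),
        fun s hs hst hd => (isPiHall_of_card ht hcard).2 s hs hst (hd.trans (relIndex_dvd_index_of_le hHC))⟩
      (fun s hs hd => (isPiHall_of_card ht hcard).1 s hs (by
        rw [Nat.card_congr (subgroupOfEquivOfLe hHC').toEquiv,
          ← Nat.card_congr (Subgroup.equivSMul (MulAut.conj n) H).toEquiv] at hd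
        exact hd))
    have hmem : (c : G)⁻¹ * n ∈ normalizer (H : Set G) := by
      refine mem_normalizer_of_conj fun h hh => ?_
      obtain ⟨z, hz, hzc⟩ := hc (mem_subgroupOf.2 (show ((⟨n * h * n⁻¹, hHC' ⟨h, hh, rfl⟩⟩ : C) : G) ∈
        MulAut.conj n • H from ⟨h, hh, rfl⟩))
      have hzc' : (c : G) * z * (c : G)⁻¹ = n * h * n⁻¹ := congrArg Subtype.val hzc
      have : (c : G)⁻¹ * n * h * ((c : G)⁻¹ * n)⁻¹ = z := by
        calc (c : G)⁻¹ * n * h * ((c : G)⁻¹ * n)⁻¹ = (c : G)⁻¹ * (n * h * n⁻¹) * c := by group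
          _ = (c : G)⁻¹ * ((c : G) * z * (c : G)⁻¹) * c := by rw [hzc']
          _ = _ := by group
      rw [this]
      exact mem_subgroupOf.1 hz
    have h1 : (c : G)⁻¹ * n ∈ C := centralizer_le (fun _ hy => hQ hy) (hN hmem)
    simpa using mul_mem c.2 h1
  have hKex : ∀ q : t, ∃ K : Subgroup G, K.Normal ∧ ¬ (q : ℕ) ∣ Nat.card K ∧ ∃ i, K.index = (q : ℕ) ^ i := by
    intro q
    haveI := Fact.mk (ht q q.2)
    obtain ⟨K, h1, h2, h3, -⟩ := ClassSizeGraph.exists_complement (hb q q.2)
    exact ⟨K, h1, h2, h3⟩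
  choose Kf hKn hKc hKi using hKex
  set K : Subgroup G := ⨅ q : t, Kf q
  haveI : K.Normal := normal_iInf_normal hKn
  have hpK : ∀ U : Subgroup G, IsPGroup p U → U ≤ K := fun U hU => le_iInf fun q => by
    haveI := hKn q
    obtain ⟨a, ha⟩ := IsPGroup.iff_card.1 hU
    obtain ⟨i, hi⟩ := hKi q
    refine ClassSizeGraph.le_of_coprime_index ?_
    rw [ha, hi]
    exact ((Nat.coprime_primes hp (ht q q.2)).2 (hpt q q.2).ne).pow a i
  have hcop : (Nat.card H).Coprime (Nat.card K) := by
    rw [hcard]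
    refine Nat.coprime_of_dvd fun s hs h1 h2 => ?_
    have hst := prime_dvd_part ht hs h1
    exact hKc ⟨s, hst⟩ (h2.trans (card_dvd_of_le (iInf_le _ _)))
  have hsolv : Group.IsSolvable H := inferInstance
  have hHD : H ≤ normalizer (D : Set G) := fun h hh => by
    refine centralizer_le_normalizer _ (mem_centralizer_iff.2 fun d hd => ?_)
    exact (mem_centralizer_iff.1 (hD hd) h hh).symm
  obtain ⟨P0, hDP0, hP0⟩ := Coprime.exists_invariant_sylow_ge (A := H) (K := K)
    ((le_top : H ≤ ⊤).trans (normalizer_eq_top_iff.2 inferInstance).ge) hcop (Or.inl hsolv) (hpK D hDp) hDp hHD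
  set T : Subgroup G := (P0 : Subgroup K).map K.subtype
  have hTp : IsPGroup p T := P0.isPGroup'.map _
  obtain ⟨S, hS⟩ := hTp.exists_le_sylow
  have hTS : T = (S : Subgroup G) := le_antisymm hS fun z hz => by
    have hSK := hpK _ S.isPGroup'
    have := P0.is_maximal' (Q := (S : Subgroup G).subgroupOf K) (S.isPGroup'.comap_of_injective _ K.subtype_injective)
      (fun w hw => mem_subgroupOf.2 (hS ⟨w, hw, rfl⟩))
    exact ⟨⟨z, hSK hz⟩, this ▸ (mem_subgroupOf.2 hz : (⟨z, hSK hz⟩ : K) ∈ (S : Subgroup G).subgroupOf K), rfl⟩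
  have hTc : Nat.card T = p * Nat.card D := by rw [hTS]; exact hidx S
  have hcom : ∀ x ∈ T, ∀ h ∈ H, h * x = x * h := by
    intro x hx
    by_cases hxD : x ∈ D
    · exact fun h hh => mem_centralizer_iff.1 (hD hxD) h hh
    intro h hh
    have hdh : ∀ d ∈ D, ∀ a ∈ H, a * d = d * a := fun d hd a ha => mem_centralizer_iff.1 (hD hd) a ha
    let St : Subgroup G :=
      { carrier := {a | a ∈ H ∧ x⁻¹ * a * x * a⁻¹ ∈ D}
        one_mem' := ⟨one_mem _, by simp⟩
        mul_mem' := by
          rintro a b ⟨ha, ha'⟩ ⟨hb, hb'⟩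
          refine ⟨mul_mem ha hb, ?_⟩
          have : x⁻¹ * (a * b) * x * (a * b)⁻¹ =
              (x⁻¹ * a * x * a⁻¹) * (a * (x⁻¹ * b * x * b⁻¹) * a⁻¹) := by group
          rw [this, hdh _ hb' a ha, mul_inv_cancel_right]
          exact mul_mem ha' hb'
        inv_mem' := by
          rintro a ⟨ha, ha'⟩
          refine ⟨inv_mem ha, ?_⟩
          have : x⁻¹ * a⁻¹ * x * a⁻¹⁻¹ = a⁻¹ * (x⁻¹ * a * x * a⁻¹)⁻¹ * a := by group
          rw [this, mul_assoc, ← hdh _ (inv_mem ha') a ha, inv_mul_cancel_left]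
          exact inv_mem ha' }
    have hStH : St ≤ H := fun a ha => ha.1
    set S' := St.subgroupOf H
    let f : H ⧸ S' → G ⧸ D := fun c => ((((c.out : H) : G) * x * ((c.out : H) : G)⁻¹ : G) : G ⧸ D)
    have hf : Function.Injective f := by
      intro c d hcd
      rw [← QuotientGroup.out_eq' c, ← QuotientGroup.out_eq' d]
      refine QuotientGroup.eq.2 (mem_subgroupOf.2 ⟨(c.out⁻¹ * d.out : H).2, ?_⟩)
      set a := ((c.out : H) : G) with ha
      set b := ((d.out : H) : G) with hb
      have h1 : (a * x * a⁻¹)⁻¹ * (b * x * b⁻¹) ∈ D := QuotientGroup.eq.1 hcd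
      show x⁻¹ * (a⁻¹ * b) * x * (a⁻¹ * b)⁻¹ ∈ D
      have h2 := (mem_normalizer_iff.1 (hHD (inv_mem c.out.2)) _).1 h1
      rw [← ha] at h2
      convert h2 using 1
      group
    have hrange : Set.range f ⊆ ((fun z : G => (z : G ⧸ D)) '' (T : Set G)) \ {((1 : G) : G ⧸ D)} := by
      rintro _ ⟨c, rfl⟩
      refine ⟨⟨_, (mem_normalizer_iff.1 (hP0 c.out.2) x).1 hx, rfl⟩, fun hc => hxD ?_⟩
      have h1 := QuotientGroup.eq.1 (Set.mem_singleton_iff.1 hc)
      rw [mul_one] at h1
      exact (mem_normalizer_iff.1 (hHD c.out.2) x).2 (inv_mem_iff.1 h1)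
    have himg : ((fun z : G => (z : G ⧸ D)) '' (T : Set G)).ncard ≤ p := by
      rw [← Nat.card_coe_set_eq]
      have hDT : D ≤ T := hDP0
      have hq : Nat.card (T ⧸ D.subgroupOf T) = p := by
        have h1 := (D.subgroupOf T).index_mul_card
        rw [Nat.card_congr (subgroupOfEquivOfLe hDT).toEquiv, hTc] at h1
        exact Nat.eq_of_mul_eq_mul_right Nat.card_pos h1
      rw [← hq]
      refine Nat.card_le_card_of_surjective (fun c : T ⧸ D.subgroupOf T =>
        (⟨((c.out : T) : G), (c.out : T), c.out.2, rfl⟩ : ((fun z : G => (z : G ⧸ D)) '' (T : Set G) : Set _))) ?_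
      rintro ⟨_, z, hz, rfl⟩
      refine ⟨((⟨z, hz⟩ : T) : T ⧸ D.subgroupOf T), Subtype.ext ?_⟩
      obtain ⟨w, hw⟩ := QuotientGroup.mk_out_eq_mul (D.subgroupOf T) (⟨z, hz⟩ : T)
      show ((((⟨z, hz⟩ : T) : T ⧸ D.subgroupOf T).out : G) : G ⧸ D) = (z : G ⧸ D)
      rw [hw]
      refine QuotientGroup.eq.2 ?_
      simp only [Subgroup.coe_mul, mul_inv_rev, mul_assoc, inv_mul_cancel, mul_one]
      exact inv_mem (mem_subgroupOf.1 w.2)
    have hidx' : S'.index < p := by
      have h1 := Set.ncard_le_ncard hrange (Set.toFinite _)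
      have h1mem : ((1 : G) : G ⧸ D) ∈ (fun z : G => (z : G ⧸ D)) '' (T : Set G) := ⟨1, one_mem T, rfl⟩
      rw [Set.ncard_diff_singleton_of_mem h1mem, Set.ncard_range_of_injective hf] at h1
      have h2 : 1 ≤ p := hp.one_lt.le
      show Nat.card (H ⧸ S') < p
      omega
    have hS'1 : S'.index = 1 := by
      by_contra hne
      obtain ⟨s, hs, hsd⟩ := Nat.exists_prime_and_dvd hne
      have := hpt s (prime_dvd_part ht hs (hcard ▸ hsd.trans (index_dvd_card _)))
      have := Nat.le_of_dvd (Nat.pos_of_ne_zero index_ne_zero_of_finite) hsd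
      omega
    obtain ⟨-, hc⟩ := relIndex_eq_one.1 (show St.relIndex H = 1 from hS'1) hh
    set c := x⁻¹ * h * x * h⁻¹ with hcdef
    have e1 : x⁻¹ * h * x⁻¹⁻¹ = c * h := by rw [hcdef]; group
    have hpow : (c * h) ^ orderOf h = 1 := by
      rw [← e1, conj_pow, pow_orderOf_eq_one]; simp
    rw [(show Commute c h from (hdh c hc h hh).symm).mul_pow, pow_orderOf_eq_one, mul_one] at hpow
    obtain ⟨a, ha⟩ := IsPGroup.iff_card.1 hDp
    have hco : (Nat.card D).Coprime (orderOf h) := by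
      rw [ha]
      refine Nat.Coprime.pow_left a (hp.coprime_iff_not_dvd.2 fun hd => hnot ?_)
      exact prime_dvd_part ht hp (hcard ▸ hd.trans (Subgroup.orderOf_dvd_natCard _ hh))
    have hc1 : c = 1 := ClassSizeGraph.eq_one_of_card_coprime hc hpow hco
    rw [hc1, one_mul, inv_inv] at e1
    calc h * x = x * (x⁻¹ * h * x) := by group
      _ = x * h := by rw [e1]
  have := hmax T (fun x hx => mem_centralizer_iff.2 (hcom x hx)) hTp
  rw [hTc] at this
  nlinarith [hp.two_le, (Nat.card_pos : 0 < Nat.card D)]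

theorem conj_sylow {p : ℕ} [hp : Fact p.Prime] (S : Sylow p G) (a : G) (ha : ∃ i, orderOf a = p ^ i) :
    ∃ x ∈ (S : Subgroup G), IsConj a x := by
  obtain ⟨g, hg⟩ := ConjRankThree.conj_into hp.out S.not_dvd_index ha
  exact ⟨_, hg, isConj_iff.2 ⟨g, rfl⟩⟩

theorem ncard_image_le_card (S : Subgroup G) :
    (ConjClasses.mk '' (S : Set G)).ncard ≤ Nat.card S :=
  (Set.ncard_image_le (Set.toFinite _)).trans (le_of_eq (Nat.card_coe_set_eq _).symm)

theorem not_count {p k A d B e r m : ℕ} (hmany : A * m < p * k) (h1 : e * r * k ≤ e * m * B + (r - 1) * m * d)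
    (h2 : p * (e * B + (r - 1) * d) ≤ e * r * A) (her : 0 < e * r) : False := by
  have h3 : e * r * (A * m) < e * r * (p * k) := Nat.mul_lt_mul_of_pos_left hmany her
  have h4 := Nat.mul_le_mul_left p h1
  have h5 := Nat.mul_le_mul_right m h2
  nlinarith

theorem arith_burn {p r B d : ℕ} (hp : 2 ≤ p) (hpr : p < r) (hB : B ≤ p * d) :
    p * (p * B + (r - 1) * d) ≤ p * r * (p * d) := by
  obtain ⟨w, rfl⟩ := Nat.exists_eq_add_of_le (show p + 1 ≤ r from hpr)
  rw [show p + 1 + w - 1 = p + w by omega]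
  have h1 : p * B ≤ p * (p * d) := Nat.mul_le_mul_left p hB
  have h2 : p + w ≤ p + p * w := Nat.add_le_add_left (Nat.le_mul_of_pos_left _ (by omega)) _
  have h3 := Nat.mul_le_mul_right d h2
  calc p * (p * B + (p + w) * d) ≤ p * (p * (p * d) + (p + p * w) * d) :=
        Nat.mul_le_mul_left _ (Nat.add_le_add h1 h3)
    _ = _ := by ring

theorem arith_fusion {p r B d : ℕ} (hpr : p < r) (hB : 2 * B ≤ p * d + d) :
    p * (2 * B + (r - 1) * d) ≤ 2 * r * (p * d) := by
  obtain ⟨w, rfl⟩ := Nat.exists_eq_add_of_le (show p + 1 ≤ r from hpr)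
  rw [show p + 1 + w - 1 = p + w by omega]
  calc p * (2 * B + (p + w) * d) ≤ p * (p * d + d + (p + w) * d) :=
        Nat.mul_le_mul_left _ (Nat.add_le_add_right hB _)
    _ ≤ p * (p * d + d + (p + w) * d + (w + 1) * d) := Nat.mul_le_mul_left _ (Nat.le_add_right _ _)
    _ = _ := by ring

theorem arith_large {p r B d A : ℕ} (hp : 2 ≤ p) (hpr : p < r) (hB : B ≤ A) (hA : p * p * d ≤ A) :
    p * (1 * B + (r - 1) * d) ≤ 1 * r * A := by
  obtain ⟨w, rfl⟩ := Nat.exists_eq_add_of_le (show p + 1 ≤ r from hpr)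
  rw [show p + 1 + w - 1 = p + w by omega, one_mul, one_mul]
  have h2 : p + w ≤ p * (1 + w) := by
    rw [mul_add, mul_one]
    exact Nat.add_le_add_left (Nat.le_mul_of_pos_left _ (by omega)) _
  calc p * (B + (p + w) * d) ≤ p * (A + p * (1 + w) * d) :=
        Nat.mul_le_mul_left _ (Nat.add_le_add hB (Nat.mul_le_mul_right d h2))
    _ = p * A + (1 + w) * (p * p * d) := by ring
    _ ≤ p * A + (1 + w) * A := Nat.add_le_add_left (Nat.mul_le_mul_left _ hA) _
    _ = _ := by ring

/-- Sylow `p`-subgroups normalising `H` give a bound. -/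
theorem case_burn {p r : ℕ} [Fact p.Prime] {t : Finset ℕ} (ht : ∀ q ∈ t, q.Prime) (hpt : ∀ q ∈ t, p < q)
    (hr : ∀ q ∈ t, r ≤ q) (hr1 : 1 ≤ r) {H D : Subgroup G} (hHn : Group.IsNilpotent H)
    (hHc : Nat.card H = part t G) (hDC : D ≤ centralizer (H : Set G)) (hDp : IsPGroup p D)
    (hmax : ∀ U : Subgroup G, U ≤ centralizer (H : Set G) → IsPGroup p U → Nat.card U ≤ Nat.card D)
    (hfull : ∀ S : Sylow p G, ¬ (S : Subgroup G) ≤ centralizer (H : Set G))
    (hout : ∀ (S : Sylow p G), ∀ x ∈ (S : Subgroup G), (∀ y ∈ D, ¬ IsConj x y) →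
      r * k t (centralizer ({x} : Set G)) ≤ part t G)
    (hbp : Burn G p) :
    ∃ S : Sylow p G, p * r * k (insert p t) G ≤
      p * part t G * (ConjClasses.mk '' ((S : Subgroup G) : Set G)).ncard + (r - 1) * part t G * Nat.card D := by
  classical
  have hp : p.Prime := Fact.out
  have hnot : p ∉ t := fun h => lt_irrefl p (hpt p h)
  haveI := hHn
  set C := centralizer (H : Set G)
  set m := part t G
  obtain ⟨K, hKn, hKc, ⟨i, hKi⟩, -⟩ := ClassSizeGraph.exists_complement hbp
  have hHK : H ≤ K := ClassSizeGraph.le_of_coprime_index (by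
    rw [hHc, hKi]
    exact Nat.Coprime.pow_right _ (hp.coprime_iff_not_dvd.2 fun h => hnot (prime_dvd_part ht hp h)).symm)
  have htop : K ⊔ normalizer (H : Set G) = ⊤ := eq_top_iff.2 fun g _ => by
    have hgK : MulAut.conj g • H ≤ K := by
      rintro _ ⟨h, hh, rfl⟩
      exact hKn.conj_mem h (hHK hh) g
    have e1 := Nat.card_congr (subgroupOfEquivOfLe hHK).toEquiv
    obtain ⟨c, hc⟩ := Solvable.exists_conj_ge_of_nilpotent_hall (π := (t : Set ℕ)) (H := H.subgroupOf K)
      (K := (MulAut.conj g • H).subgroupOf K)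
      (Group.nilpotent_of_surjective (subgroupOfEquivOfLe hHK).symm.toMonoidHom (subgroupOfEquivOfLe hHK).symm.surjective)
      ⟨fun q hq hd => (isPiHall_of_card ht hHc).1 q hq (e1 ▸ hd),
        fun q hq hqt hd => (isPiHall_of_card ht hHc).2 q hq hqt (hd.trans (relIndex_dvd_index_of_le hHK))⟩
      (fun q hq hd => (isPiHall_of_card ht hHc).1 q hq (by
        rw [Nat.card_congr (subgroupOfEquivOfLe hgK).toEquiv,
          ← Nat.card_congr (Subgroup.equivSMul (MulAut.conj g) H).toEquiv] at hd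
        exact hd))
    have hmem : (c : G)⁻¹ * g ∈ normalizer (H : Set G) := mem_normalizer_of_conj fun h hh => by
      obtain ⟨z, hz, hzc⟩ := hc (mem_subgroupOf.2 (show ((⟨g * h * g⁻¹, hgK ⟨h, hh, rfl⟩⟩ : K) : G) ∈
        MulAut.conj g • H from ⟨h, hh, rfl⟩))
      have hzc' : (c : G) * z * (c : G)⁻¹ = g * h * g⁻¹ := congrArg Subtype.val hzc
      have : (c : G)⁻¹ * g * h * ((c : G)⁻¹ * g)⁻¹ = z := by
        calc (c : G)⁻¹ * g * h * ((c : G)⁻¹ * g)⁻¹ = (c : G)⁻¹ * (g * h * g⁻¹) * c := by group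
          _ = (c : G)⁻¹ * ((c : G) * z * (c : G)⁻¹) * c := by rw [hzc']
          _ = _ := by group
      rw [this]
      exact mem_subgroupOf.1 hz
    simpa using mul_mem_sup c.2 hmem
  set N := normalizer (H : Set G) with hNdef
  have hCN : C ≤ N := centralizer_le_normalizer _
  have hNidx : ¬ p ∣ N.index := by
    have e := Solvable.relIndex_sup_of_normal N K
    rw [sup_comm, htop, relIndex_top_right] at e
    exact fun h => hKc (h.trans (e ▸ index_dvd_card _))
  obtain ⟨Q, hQ⟩ := (hDp.comap_of_injective N.subtype N.subtype_injective).exists_le_sylow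
  have hQG : ¬ p ∣ ((Q : Subgroup N).map N.subtype).index := by
    rw [index_map_subtype]
    exact fun hd => (hp.dvd_mul.1 hd).elim Q.not_dvd_index hNidx
  set S1 : Sylow p G := (Q.isPGroup'.map N.subtype).toSylow hQG
  have hS1 : (S1 : Subgroup G) = (Q : Subgroup N).map N.subtype := rfl
  have hDS1 : D ≤ (S1 : Subgroup G) := fun d hd => by
    rw [hS1]; exact ⟨⟨d, hCN (hDC hd)⟩, hQ hd, rfl⟩
  obtain ⟨n, hnS, hnC⟩ := SetLike.not_le_iff_exists.1 (hfull S1)
  have hnN : n ∈ N := by rw [hS1] at hnS; exact map_subtype_le _ hnS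
  have hint : (S1 : Subgroup G) ⊓ C = D := (eq_of_le_of_card_ge (le_inf hDS1 hDC)
    (hmax _ inf_le_right (S1.isPGroup'.to_le inf_le_left))).symm
  have hnD : n ∈ normalizer (D : Set G) := mem_normalizer_of_conj fun d hd => by
    have hd' : d ∈ (S1 : Subgroup G) ⊓ C := hint.symm ▸ hd
    rw [← hint]
    refine ⟨(S1 : Subgroup G).mul_mem ((S1 : Subgroup G).mul_mem hnS hd'.1) ((S1 : Subgroup G).inv_mem hnS), mem_centralizer_iff.2 fun h hh => ?_⟩
    have e : (n⁻¹ * h * n) * d = d * (n⁻¹ * h * n) := mem_centralizer_iff.1 hd'.2 _ (by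
      have := (mem_normalizer_iff.1 (inv_mem hnN) h).1 hh
      rwa [inv_inv] at this)
    calc h * (n * d * n⁻¹) = n * ((n⁻¹ * h * n) * d) * n⁻¹ := by group
      _ = n * (d * (n⁻¹ * h * n)) * n⁻¹ := by rw [e]
      _ = _ := by group
  obtain ⟨a, ha⟩ := ClassSizeGraph.orderOf_dvd_prime_pow hnS
  have he : ∀ d, d ∣ orderOf n → d ≠ 1 → p ≤ d := fun d hd hd1 => by
    obtain ⟨b, -, rfl⟩ := (Nat.dvd_prime_pow hp).1 (ha ▸ hd)
    exact Nat.le_self_pow (fun h => hd1 (by rw [h, pow_zero])) p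
  have h1 := master (t := t) (r := r) (e := p) hDS1 (conj_sylow S1) (hout S1) fun x hx =>
    hin_of_normalizing ht hHn hHc hDC (by omega) hr hnN hnD hnC hp.one_lt.le he hx
  exact ⟨S1, h1⟩

/-- Fusion in `H` gives a bound. -/
theorem case_fusion {p r : ℕ} [Fact p.Prime] {t : Finset ℕ} (ht : ∀ q ∈ t, q.Prime) (hpt : ∀ q ∈ t, p < q)
    (hr : ∀ q ∈ t, r ≤ q) (hr1 : 1 ≤ r) {H : Subgroup G} (hHn : Group.IsNilpotent H)
    (hHc : Nat.card H = part t G) (D0 : Sylow p (centralizer (H : Set G)))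
    {D : Subgroup G} (hD : D = (D0 : Subgroup (centralizer (H : Set G))).map (centralizer (H : Set G)).subtype)
    (S : Sylow p G) (hDS : D ≤ (S : Subgroup G))
    (hout : ∀ (S : Sylow p G), ∀ x ∈ (S : Subgroup G), (∀ y ∈ D, ¬ IsConj x y) →
      r * k t (centralizer ({x} : Set G)) ≤ part t G)
    (hN : ¬ normalizer (H : Set G) ≤ centralizer (H : Set G)) :
    2 * r * k (insert p t) G ≤
      2 * part t G * (ConjClasses.mk '' ((S : Subgroup G) : Set G)).ncard + (r - 1) * part t G * Nat.card D := by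
  classical
  have hp : p.Prime := Fact.out
  have hDC : D ≤ (centralizer (H : Set G)) := hD ▸ map_subtype_le _
  have hDp : IsPGroup p D := hD ▸ D0.isPGroup'.map _
  obtain ⟨n0, hn0, hn0C⟩ := SetLike.not_le_iff_exists.1 hN
  have hUC : MulAut.conj n0 • D ≤ (centralizer (H : Set G)) := by
    rintro _ ⟨d, hd, rfl⟩
    refine mem_centralizer_iff.2 fun h hh => ?_
    have e : (n0⁻¹ * h * n0) * d = d * (n0⁻¹ * h * n0) := mem_centralizer_iff.1 (hDC hd) _ (by
      have := (mem_normalizer_iff.1 (inv_mem hn0) h).1 hh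
      rwa [inv_inv] at this)
    show h * (n0 * d * n0⁻¹) = n0 * d * n0⁻¹ * h
    calc h * (n0 * d * n0⁻¹) = n0 * ((n0⁻¹ * h * n0) * d) * n0⁻¹ := by group
      _ = n0 * (d * (n0⁻¹ * h * n0)) * n0⁻¹ := by rw [e]
      _ = _ := by group
  have hUp : IsPGroup p ((MulAut.conj n0 • D).subgroupOf (centralizer (H : Set G))) :=
    (hDp.map (MulAut.conj n0).toMonoidHom).comap_of_injective (centralizer (H : Set G)).subtype (centralizer (H : Set G)).subtype_injective
  obtain ⟨Q, hQ⟩ := hUp.exists_le_sylow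
  obtain ⟨c, hc⟩ := MulAction.exists_smul_eq (centralizer (H : Set G)) Q D0
  have hnD : (c : G) * n0 ∈ normalizer (D : Set G) := mem_normalizer_of_conj fun d hd => by
    have hmem : (⟨n0 * d * n0⁻¹, hUC ⟨d, hd, rfl⟩⟩ : (centralizer (H : Set G))) ∈ (Q : Subgroup (centralizer (H : Set G))) :=
      hQ (mem_subgroupOf.2 ⟨d, hd, rfl⟩)
    rw [hD]
    refine ⟨c * ⟨n0 * d * n0⁻¹, hUC ⟨d, hd, rfl⟩⟩ * c⁻¹, ?_, ?_⟩
    · rw [← hc, Sylow.coe_subgroup_smul]; exact ⟨_, hmem, rfl⟩
    · show (c : G) * (n0 * d * n0⁻¹) * (c : G)⁻¹ = (c : G) * n0 * d * ((c : G) * n0)⁻¹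
      group
  have hnN : (c : G) * n0 ∈ normalizer (H : Set G) := mul_mem (centralizer_le_normalizer _ c.2) hn0
  have hnC : (c : G) * n0 ∉ (centralizer (H : Set G)) := fun h => hn0C ((mul_mem_cancel_left c.2).1 h)
  have he : ∀ (g : G) d, d ∣ orderOf g → d ≠ 1 → 2 ≤ d := fun g d hd hd1 => by
    have := Nat.pos_of_dvd_of_pos hd (orderOf_pos g)
    omega
  have h1 := master (t := t) (r := r) (e := 2) hDS (conj_sylow S) (hout S) fun x hx =>
    hin_of_normalizing ht hHn hHc hDC (by omega) hr hnN hnD hnC (by omega) (he _) hx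
  exact h1

/-- Fusion in a Sylow subgroup. -/
theorem fusion_bound {p d : ℕ} [Fact p.Prime] (S : Sylow p G) (hS : Nat.card (S : Subgroup G) = p * d)
    (hb : ¬ Burn G p) : 2 * (ConjClasses.mk '' ((S : Subgroup G) : Set G)).ncard ≤ p * d + d := by
  have hp : p.Prime := Fact.out
  obtain ⟨n, hn, hnC⟩ := SetLike.not_le_iff_exists.1 (fun h => hb ⟨S, h⟩ :
    ¬ normalizer ((S : Subgroup G) : Set G) ≤ centralizer ((S : Subgroup G) : Set G))
  have h2 := card_image_conj_le (S : Subgroup G) hn (e := 2) (by omega) fun b hb hb1 => by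
    have := Nat.pos_of_dvd_of_pos hb (orderOf_pos n)
    omega
  have h3 : p * Nat.card ((S : Subgroup G) ⊓ centralizer ({n} : Set G) : Subgroup G) ≤ Nat.card (S : Subgroup G) := by
    refine mul_card_le_of_lt inf_le_left (fun h => hnC (mem_centralizer_iff.2 fun y hy => ?_)) fun q hq hd => ?_
    · exact mem_centralizer_singleton_iff.1 (h hy).2
    · obtain ⟨i, hi⟩ := IsPGroup.iff_card.1 S.isPGroup'
      rw [hi] at hd
      exact ((Nat.prime_dvd_prime_iff_eq hq hp).1 (hq.dvd_of_dvd_pow hd)).ge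
  rw [hS] at h2 h3
  exact h2.trans (Nat.add_le_add_left (by simpa using Nat.le_of_mul_le_mul_left h3 hp.pos) _)

/-- A commuting Sylow subgroup completes a Hall subgroup. -/
theorem exists_of_full {p : ℕ} [Fact p.Prime] {t : Finset ℕ} {H : Subgroup G} (hH : Group.IsNilpotent H)
    (hcop : ∀ S : Sylow p G, (Nat.card (S : Subgroup G)).Coprime (Nat.card H))
    (S : Sylow p G) (hS : (S : Subgroup G) ≤ centralizer (H : Set G)) :
    ∃ L : Subgroup G, Group.IsNilpotent L ∧ Nat.card L = Nat.card (S : Subgroup G) * Nat.card H := by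
  haveI := hH
  haveI : Group.IsNilpotent (S : Subgroup G) := S.isPGroup'.isNilpotent
  have hcomm : ∀ (a : (S : Subgroup G)) (b : H), Commute (a : G) (b : G) := fun a b =>
    (mem_centralizer_iff.1 (hS a.2) b b.2).symm
  let φ : ↥(S : Subgroup G) × ↥H →* G := MonoidHom.noncommCoprod (S : Subgroup G).subtype H.subtype hcomm
  have hbot : (S : Subgroup G) ⊓ H = ⊥ := inf_eq_bot_of_coprime (hcop S)
  have hφ : Function.Injective φ := by
    rw [← MonoidHom.ker_eq_bot_iff, eq_bot_iff]
    rintro ⟨a, b⟩ h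
    have h' : (a : G) * (b : G) = 1 := h
    have ha : (a : G) = 1 := by
      have hin : (a : G) ∈ (S : Subgroup G) ⊓ H := ⟨a.2, by
        rw [eq_inv_of_mul_eq_one_left h']; exact H.inv_mem b.2⟩
      rwa [hbot, mem_bot] at hin
    rw [ha, one_mul] at h'
    exact mem_bot.2 (Prod.ext (Subtype.ext ha) (Subtype.ext h'))
  refine ⟨φ.range, Group.nilpotent_of_surjective φ.rangeRestrict φ.rangeRestrict_surjective, ?_⟩
  rw [← Nat.card_congr (MonoidHom.ofInjective hφ).toEquiv, Nat.card_prod]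

theorem exists_nilpotent_hall (s : Finset ℕ) : ∀ (G : Type u) [Group G] [Finite G] (p : ℕ),
    (∀ q ∈ s, q.Prime) → (∀ q ∈ s, p ≤ q) → part s G < p * k s G →
    ∃ H : Subgroup G, Group.IsNilpotent H ∧ Nat.card H = part s G := by
  classical
  induction hn : s.card using Nat.strong_induction_on generalizing s with
  | _ c ih =>
    intro G _ _ p0 hs hp0 hmany
    rcases s.eq_empty_or_nonempty with rfl | hne
    · exact ⟨⊥, inferInstance, by simp [part]⟩
    set p := s.min' hne
    have hps : p ∈ s := s.min'_mem hne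
    haveI hpf := Fact.mk (hs p hps)
    have hp : p.Prime := hpf.out
    set t := s.erase p
    have hins : insert p t = s := Finset.insert_erase hps
    have hnot : p ∉ t := Finset.notMem_erase p s
    have ht : ∀ q ∈ t, q.Prime := fun q hq => hs q (Finset.mem_of_mem_erase hq)
    have hpt : ∀ q ∈ t, p < q := fun q hq =>
      lt_of_le_of_ne (s.min'_le q (Finset.mem_of_mem_erase hq)) (fun h => (Finset.ne_of_mem_erase hq) h.symm)
    have hmany' : part s G < p * k s G := hmany.trans_le (Nat.mul_le_mul_right _ (hp0 p hps))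
    obtain ⟨P⟩ := (inferInstance : Nonempty (Sylow p G))
    have hsplit : part s G = Nat.card (P : Subgroup G) * part t G := by
      rw [P.card_eq_multiplicity, ← hins, part, Finset.prod_insert hnot, part]
    haveI hPn : Group.IsNilpotent (P : Subgroup G) := P.isPGroup'.isNilpotent
    rcases t.eq_empty_or_nonempty with hte | htne
    · exact ⟨P, hPn, by rw [hsplit, hte]; simp [part]⟩
    set r := t.min' htne
    have hrt : r ∈ t := t.min'_mem htne
    have hpr : p < r := hpt r hrt
    have hr : ∀ q ∈ t, r ≤ q := fun q hq => t.min'_le q hq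
    set m := part t G
    have hm : 0 < m := part_pos ht
    have hPcard : ∀ S : Sylow p G, Nat.card (S : Subgroup G) = Nat.card (P : Subgroup G) := fun S => by
      rw [S.card_eq_multiplicity, P.card_eq_multiplicity]
    have hgood : ∀ x : G, m < r * k t (centralizer ({x} : Set G)) →
        ∃ L : Subgroup G, Group.IsNilpotent L ∧ Nat.card L = m ∧ x ∈ centralizer (L : Set G) := by
      intro x hx
      set Γ := centralizer ({x} : Set G)
      have hd : part t Γ ∣ m := part_subgroup_dvd Γ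
      obtain ⟨L, hLn, hLc⟩ := ih t.card (hn ▸ Finset.card_erase_lt_of_mem hps) t rfl Γ r ht hr
        ((Nat.le_of_dvd hm hd).trans_lt hx)
      have heq : part t Γ = m := by
        obtain ⟨q, hq⟩ := hd
        by_contra hne'
        have hq1 : q ≠ 1 := fun h => hne' (by rw [hq, h, mul_one])
        obtain ⟨u, hu, hud⟩ := Nat.exists_prime_and_dvd hq1
        have hru : r ≤ q := (hr u (prime_dvd_part ht hu (show u ∣ m from hq ▸ hud.mul_left _))).trans
          (Nat.le_of_dvd (Nat.pos_of_ne_zero fun h0 => by rw [h0, mul_zero] at hq; omega) hud)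
        have h1 : r * k t Γ ≤ r * part t Γ := Nat.mul_le_mul_left _ (k_le_part ht)
        have h2 : r * part t Γ ≤ part t Γ * q := by rw [mul_comm]; exact Nat.mul_le_mul_left _ hru
        omega
      haveI := hLn
      refine ⟨L.map Γ.subtype, Group.nilpotent_of_surjective (L.equivMapOfInjective _ Γ.subtype_injective).toMonoidHom
        (L.equivMapOfInjective _ Γ.subtype_injective).surjective, ?_, ?_⟩
      · rw [card_map_of_injective Γ.subtype_injective, hLc, heq]
      · refine mem_centralizer_iff.2 ?_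
        rintro _ ⟨l, -, rfl⟩
        exact mem_centralizer_singleton_iff.1 l.2
    haveI := Fintype.ofFinite G
    obtain ⟨H, hHn, hHc⟩ : ∃ H : Subgroup G, Group.IsNilpotent H ∧ Nat.card H = m := by
      by_contra hcon
      set R := Finset.univ.filter fun x : G => x ∈ (P : Subgroup G)
      have h1 : k s G ≤ ∑ x ∈ R, k t (centralizer ({x} : Set G)) := by
        rw [← hins]
        refine k_insert_le R fun a ha => ?_
        obtain ⟨x, hx, hax⟩ := conj_sylow P a ha
        exact ⟨x, Finset.mem_filter.2 ⟨Finset.mem_univ _, hx⟩, hax⟩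
      have h2 : ∀ x ∈ R, r * k t (centralizer ({x} : Set G)) ≤ m := fun x _ => not_lt.1 fun h => by
        obtain ⟨L, hL1, hL2, -⟩ := hgood x h
        exact hcon ⟨L, hL1, hL2⟩
      have h3 : r * k s G ≤ Nat.card (P : Subgroup G) * m := by
        refine (Nat.mul_le_mul_left r h1).trans ?_
        rw [Finset.mul_sum]
        refine (Finset.sum_le_sum h2).trans_eq ?_
        rw [Finset.sum_const, smul_eq_mul, Nat.card_eq_fintype_card, Fintype.card_subtype]
      have h4 : p * k s G ≤ r * k s G := Nat.mul_le_mul_right _ hpr.le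
      rw [hsplit] at hmany'
      omega
    haveI := hHn
    set C := centralizer (H : Set G)
    obtain ⟨D0⟩ := (inferInstance : Nonempty (Sylow p C))
    set D : Subgroup G := (D0 : Subgroup C).map C.subtype with hDdef
    have hDC : D ≤ C := map_subtype_le _
    have hDp : IsPGroup p D := D0.isPGroup'.map _
    have hDcard : Nat.card D = Nat.card (D0 : Subgroup C) := card_map_of_injective C.subtype_injective
    have hmax : ∀ U : Subgroup G, U ≤ C → IsPGroup p U → Nat.card U ≤ Nat.card D := by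
      intro U hU hUp
      obtain ⟨Q, hQ⟩ := (hUp.comap_of_injective C.subtype C.subtype_injective).exists_le_sylow
      rw [hDcard, ← Nat.card_congr (subgroupOfEquivOfLe hU).toEquiv, D0.card_eq_multiplicity,
        ← Q.card_eq_multiplicity]
      exact Nat.le_of_dvd Nat.card_pos (card_dvd_of_le hQ)
    have hinto : ∀ x ∈ C, (∃ i, orderOf x = p ^ i) → ∃ y ∈ D, IsConj x y := by
      rintro x hx ⟨i, hi⟩
      obtain ⟨g, hg⟩ := ConjRankThree.conj_into (G := C) hp D0.not_dvd_index (k := ⟨x, hx⟩)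
        ⟨i, by rw [Subgroup.orderOf_mk, hi]⟩
      exact ⟨_, ⟨_, hg, rfl⟩, isConj_iff.2 ⟨(g : G), rfl⟩⟩
    have hout : ∀ (S : Sylow p G), ∀ x ∈ (S : Subgroup G), (∀ y ∈ D, ¬ IsConj x y) →
        r * k t (centralizer ({x} : Set G)) ≤ m := by
      intro S x hxS hno
      refine not_lt.1 fun hlt => ?_
      obtain ⟨L, hLn, hLc, hxL⟩ := hgood x hlt
      obtain ⟨g, hg⟩ := Solvable.exists_conj_ge_of_nilpotent_hall hHn (isPiHall_of_card ht hHc) (K := L)
        fun q hq hd => prime_dvd_part ht hq (hLc ▸ hd)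
      have heq : L = MulAut.conj g • H := eq_of_le_of_card_ge hg
        (le_of_eq (by rw [← Nat.card_congr (Subgroup.equivSMul (MulAut.conj g) H).toEquiv, hHc, hLc]))
      obtain ⟨i, hi⟩ := ClassSizeGraph.orderOf_dvd_prime_pow hxS
      obtain ⟨y, hy, hxy⟩ := hinto (g⁻¹ * x * g) (mem_centralizer_iff.2 fun h hh => by
        have e : (g * h * g⁻¹) * x = x * (g * h * g⁻¹) :=
          mem_centralizer_iff.1 hxL _ (heq ▸ (⟨h, hh, rfl⟩ : MulAut.conj g h ∈ MulAut.conj g • H))
        calc h * (g⁻¹ * x * g) = g⁻¹ * ((g * h * g⁻¹) * x) * g := by group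
          _ = g⁻¹ * (x * (g * h * g⁻¹)) * g := by rw [e]
          _ = _ := by group) ⟨i, by
        rw [← hi]
        have := (MulAut.conj g⁻¹).orderOf_eq x
        simpa using this⟩
      exact hno y hy ((isConj_iff.2 ⟨g⁻¹, by group⟩ : IsConj x (g⁻¹ * x * g)).trans hxy)
    by_cases hfull : ∃ S : Sylow p G, (S : Subgroup G) ≤ C
    · obtain ⟨S, hS⟩ := hfull
      obtain ⟨L, hL1, hL2⟩ := exists_of_full (t := t) hHn (fun S => by
        rw [S.card_eq_multiplicity, hHc]
        exact Nat.Coprime.pow_left _ (hp.coprime_iff_not_dvd.2 fun h => hnot (prime_dvd_part ht hp h))) S hS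
      exact ⟨L, hL1, by rw [hL2, hHc, hPcard S, hsplit]⟩
    exfalso
    push Not at hfull
    obtain ⟨S, hDS⟩ := hDp.exists_le_sylow
    have hne' : ¬ (S : Subgroup G) ≤ D := fun h => hfull S (h.trans hDC)
    obtain ⟨α, hα⟩ := IsPGroup.iff_card.1 hDp
    obtain ⟨β, hβ⟩ := IsPGroup.iff_card.1 P.isPGroup'
    have hαβ : α < β := by
      have h1 : Nat.card D < Nat.card (S : Subgroup G) :=
        lt_of_le_of_ne (Nat.le_of_dvd Nat.card_pos (card_dvd_of_le hDS))
          fun h => hne' (eq_of_le_of_card_ge hDS h.ge).ge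
      rw [hPcard S, hα, hβ] at h1
      exact (Nat.pow_lt_pow_iff_right hp.one_lt).1 h1
    rw [hsplit] at hmany'
    have hkins : k (insert p t) G = k s G := by rw [hins]
    by_cases hone : β = α + 1
    · have hidx : ∀ S : Sylow p G, Nat.card (S : Subgroup G) = p * Nat.card D := fun S => by
        rw [hPcard S, hβ, hα, hone, pow_succ, mul_comm]
      by_cases hN : normalizer (H : Set G) ≤ C
      · exact central_case ht hpt hHn hHc hDC hDp hmax hidx hN
      by_cases hbp : Burn G p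
      · obtain ⟨S1, h1⟩ := case_burn ht hpt hr (by omega) hHn hHc hDC hDp hmax hfull hout hbp
        rw [hkins] at h1
        refine not_count hmany' h1 ?_ (Nat.mul_pos hp.pos (by omega))
        rw [hidx P]
        exact arith_burn hp.two_le hpr ((ncard_image_le_card _).trans (le_of_eq (hidx S1)))
      · have h1 := case_fusion ht hpt hr (by omega) hHn hHc D0 hDdef S hDS hout hN
        rw [hkins] at h1
        refine not_count hmany' h1 ?_ (Nat.mul_pos two_pos (by omega))
        rw [hidx P]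
        exact arith_fusion hpr (fusion_bound S (hidx S) hbp)
    · have h1 := master (t := t) (r := r) (e := 1) hDS (conj_sylow S) (hout S) fun x hx => by
        have h2 : r * k t (centralizer ({x} : Set G)) ≤ r * m := Nat.mul_le_mul_left _ ((k_le_part ht).trans
          (Nat.le_of_dvd hm (part_subgroup_dvd _)))
        have h3 : 1 ≤ {y : G | y ∈ D ∧ IsConj x y}.ncard :=
          (Set.ncard_pos (Set.toFinite _)).2 ⟨x, hx, IsConj.refl x⟩
        have h4 : (r - 1) * m ≤ (r - 1) * m * {y : G | y ∈ D ∧ IsConj x y}.ncard := Nat.le_mul_of_pos_right _ h3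
        have h5 : r * m = m + (r - 1) * m := by
          conv_lhs => rw [show r = 1 + (r - 1) by omega]
          ring
        rw [one_mul, one_mul]
        omega
      rw [hkins] at h1
      refine not_count hmany' h1 ?_ (Nat.mul_pos one_pos (by omega))
      refine arith_large hp.two_le hpr ((ncard_image_le_card _).trans (le_of_eq (hPcard S))) ?_
      rw [hα, hβ, show p * p * p ^ α = p ^ (α + 2) by ring]
      exact Nat.pow_le_pow_right hp.pos (by omega)

end Cfsg.Agent.PiClassCount
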