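import Cfsg.Agent.Lib.ClassIndex.TwoLargest
import Cfsg.Agent.EqLemmas

/-
Nilpotent groups with many classes.

* `weighted` : bounding the class number by weights
* `isMulCommutative_of_many` : `p³ k(H) > (p² + p - 1) |H|` forces an abelian group
* `card_commutator_le_of_many` : a nilpotent group with `p k(H) > |H|` has `|H'| ≤ p`
-/

set_option autoImplicit false
set_option linter.style.haveILetI false
set_option linter.unusedSectionVars false

open Subgroup
open scoped commutatorElement

namespace Cfsg.Agent.PiClassCount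

open Cfsg.Agent.ClassGraph (sz)

variable {H : Type*} [Group H] [Finite H]

local notation "cent" x:max => Subgroup.centralizer ({x} : Set _)

/-- Bounding the class number by weights. -/
theorem weighted [Fintype H] (w : H → ℕ) (N : ℕ) (h : ∀ x y : H, IsConj x y → N ≤ sz x * w y) :
    N * Nat.card (ConjClasses H) ≤ ∑ x : H, w x := by
  classical
  haveI := Fintype.ofFinite (ConjClasses H)
  rw [← Finset.sum_fiberwise Finset.univ ConjClasses.mk w, Nat.card_eq_fintype_card, mul_comm,
    ← Finset.card_univ, ← smul_eq_mul]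
  refine Finset.card_nsmul_le_sum _ _ _ fun c _ => ?_
  obtain ⟨x, rfl⟩ := ConjClasses.mk_surjective c
  set s := Finset.univ.filter fun y : H => ConjClasses.mk y = ConjClasses.mk x
  have hs : s.card = sz x := by
    rw [ClassGraph.sz, ← ClassIndex.natCard_carrier_eq_index, Nat.card_eq_fintype_card, ← Fintype.card_coe]
    refine Fintype.card_congr (Equiv.subtypeEquivRight fun y => ?_)
    simp [s, ConjClasses.mem_carrier_iff_mk_eq]
  have hpos : 0 < sz x := ClassGraph.sz_pos x
  refine Nat.le_of_mul_le_mul_left ?_ hpos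
  rw [Finset.mul_sum]
  calc sz x * N = s.card • N := by rw [hs, smul_eq_mul]
    _ ≤ _ := Finset.card_nsmul_le_sum _ _ _ fun y hy =>
      h x y (ConjClasses.mk_eq_mk_iff_isConj.1 (Finset.mem_filter.1 hy).2).symm

/-- Classes outside a normal subgroup of size at least `n`. -/
theorem count_subgroup (A : Subgroup H) [A.Normal] (n : ℕ) (h : ∀ x ∉ A, n ≤ sz x) :
    n * Nat.card (ConjClasses H) ≤ Nat.card H + (n - 1) * Nat.card A := by
  classical
  haveI := Fintype.ofFinite H
  refine (weighted (fun x => if x ∈ A then n else 1) n fun x y hxy => ?_).trans ?_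
  · split_ifs with hy
    · exact Nat.le_mul_of_pos_left _ (ClassGraph.sz_pos x)
    · rw [mul_one]
      refine h x fun hx => hy ?_
      obtain ⟨g, rfl⟩ := isConj_iff.1 hxy
      exact ‹A.Normal›.conj_mem x hx g
  · have : ∑ x : H, (if x ∈ A then n else 1) ≤ ∑ x : H, (1 + (if x ∈ A then n - 1 else 0)) :=
      Finset.sum_le_sum fun x _ => by split_ifs <;> omega
    refine this.trans (le_of_eq ?_)
    rw [Finset.sum_add_distrib, Finset.sum_ite, Finset.sum_const, Finset.sum_const, Finset.sum_const_zero,
      Finset.card_univ, Nat.card_eq_fintype_card, Nat.card_eq_fintype_card, Fintype.card_subtype, smul_eq_mul,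
      smul_eq_mul, mul_one, add_zero, mul_comm (n - 1)]

theorem arith_pq {p q : ℕ} (hpq : p < q) : p * (q * q + q - 1) ≤ q * q * q := by
  obtain ⟨q', rfl⟩ : ∃ q', q = q' + 1 := ⟨q - 1, by omega⟩
  rw [show (q' + 1) * (q' + 1) + (q' + 1) - 1 = (q' + 1) * (q' + 1) + q' by omega]
  calc p * ((q' + 1) * (q' + 1) + q') ≤ q' * ((q' + 1) * (q' + 1) + q') := Nat.mul_le_mul_right _ (by omega)
    _ ≤ q' * ((q' + 1) * (q' + 1) + q') + (2 * q' + 1) := Nat.le_add_right _ _
    _ = _ := by ring

theorem sq_le_of_gt {p n : ℕ} (hp : ∀ r, r.Prime → r ∣ n → r = p) (h : p < n) : p * p ≤ n := by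
  rcases eq_or_ne n 1 with rfl | hn1
  · rw [show p = 0 by omega]; simp
  obtain ⟨r, hr, hrd⟩ := Nat.exists_prime_and_dvd hn1
  obtain rfl : p = r := (hp r hr hrd).symm
  obtain ⟨c, rfl⟩ := hrd
  refine Nat.mul_le_mul_left p ?_
  obtain ⟨r', hr', hrd'⟩ := Nat.exists_prime_and_dvd (show c ≠ 1 by rintro rfl; omega)
  exact (hp r' hr' (hrd'.mul_left p)).symm.le.trans (Nat.le_of_dvd (Nat.pos_of_ne_zero fun h0 => by
    rw [h0, mul_zero] at h; omega) hrd')

theorem eq_of_index_le {A B : Subgroup H} (h : A ≤ B) (hi : A.index ≤ B.index) : A = B := by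
  refine eq_of_le_of_card_ge h (Nat.le_of_mul_le_mul_right ?_ (Nat.pos_of_ne_zero (index_ne_zero_of_finite (H := A))))
  calc Nat.card B * A.index ≤ Nat.card B * B.index := Nat.mul_le_mul_left _ hi
    _ = Nat.card A * A.index := B.card_mul_index.trans A.card_mul_index.symm

theorem sz_ge {p : ℕ} (hprimes : ∀ q : ℕ, q.Prime → q ∣ Nat.card H → p ≤ q) {x : H}
    (hx : x ∉ center H) : p ≤ sz x := by
  obtain ⟨q, hq, hqd⟩ := Nat.exists_prime_and_dvd (fun h => hx (TwoLargest.sz_eq_one_iff.1 h) : sz x ≠ 1)
  exact (hprimes q hq (hqd.trans (index_dvd_card _))).trans (Nat.le_of_dvd (ClassGraph.sz_pos x) hqd)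

theorem center_index_sq {p : ℕ} (hprimes : ∀ q : ℕ, q.Prime → q ∣ Nat.card H → p ≤ q) {x : H}
    (hx : x ∉ center H) : p * sz x ≤ (center H).index := by
  have hle : center H ≤ cent x := fun z hz => mem_centralizer_singleton_iff.2 (mem_center_iff.1 hz x).symm
  have h1 := relIndex_mul_index hle
  have hne : (center H).relIndex (cent x) ≠ 1 := fun h =>
    hx (relIndex_eq_one.1 h (mem_centralizer_singleton_iff.2 rfl))
  obtain ⟨q, hq, hqd⟩ := Nat.exists_prime_and_dvd hne
  rw [← h1]
  exact Nat.mul_le_mul_right _ ((hprimes q hq (hqd.trans ((index_dvd_card _).trans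
    (card_subgroup_dvd_card _)))).trans (Nat.le_of_dvd (Nat.pos_of_ne_zero index_ne_zero_of_finite) hqd))

/-- Many classes force an abelian group. -/
theorem isMulCommutative_of_many {p : ℕ} (hp : 1 ≤ p) (hprimes : ∀ q : ℕ, q.Prime → q ∣ Nat.card H → p ≤ q)
    (hmany : Nat.card H * (p ^ 2 + p - 1) < p ^ 3 * Nat.card (ConjClasses H)) : IsMulCommutative H := by
  by_contra hcon
  obtain ⟨x, hx⟩ : ∃ x : H, x ∉ center H := by
    by_contra h
    push Not at h
    exact hcon ⟨⟨fun a b => (mem_center_iff.1 (h b) a)⟩⟩
  have h1 := count_subgroup (center H) p fun y hy => sz_ge hprimes hy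
  have h2 : p * p ≤ (center H).index :=
    (Nat.mul_le_mul_left p (sz_ge hprimes hx)).trans (center_index_sq hprimes hx)
  have h3 := (center H).index_mul_card
  obtain ⟨p', rfl⟩ : ∃ p', p = p' + 1 := ⟨p - 1, by omega⟩
  rw [Nat.add_sub_cancel] at h1
  have h4 := Nat.mul_le_mul_right (Nat.card (center H)) h2
  rw [h3] at h4
  have h5 : (p' + 1) ^ 2 + (p' + 1) - 1 = (p' + 1) ^ 2 + p' := by omega
  rw [h5] at hmany
  have h6 := Nat.mul_le_mul_left ((p' + 1) ^ 2) h1
  have h7 := Nat.mul_le_mul_left p' h4
  nlinarith

/-- In a nilpotent group, a class size divisible by a prime `q` greater than `p` rules out many classes. -/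
theorem no_large_prime [Group.IsNilpotent H] {p q : ℕ} [Fact q.Prime] (hpq : p < q) {g : H} (hg : q ∣ sz g) :
    p * Nat.card (ConjClasses H) ≤ Nat.card H := by
  have hq : q.Prime := Fact.out
  obtain ⟨Q⟩ := (inferInstance : Nonempty (Sylow q H))
  haveI hQn : (Q : Subgroup H).Normal :=
    ((Group.isNilpotent_of_finite_tfae (G := H)).out 0 3 rfl rfl).mp inferInstance q inferInstance Q
  set A := centralizer ((Q : Subgroup H) : Set H)
  have hcontains : ∀ B : Subgroup H, ¬ q ∣ B.index → (Q : Subgroup H) ≤ B := by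
    intro B hB
    obtain ⟨P0⟩ := (inferInstance : Nonempty (Sylow q B))
    have hPG : ¬ q ∣ ((P0 : Subgroup B).map B.subtype).index := by
      rw [index_map_subtype]
      exact fun hd => (hq.dvd_mul.1 hd).elim P0.not_dvd_index hB
    haveI := Sylow.unique_of_normal Q hQn
    have he : (P0.isPGroup'.map B.subtype).toSylow hPG = Q := Subsingleton.elim _ _
    rw [← he]
    exact map_subtype_le _
  have hout : ∀ y ∉ A, q ≤ sz y := fun y hy => Nat.le_of_dvd (ClassGraph.sz_pos y) <| by
    by_contra hd
    exact hy (mem_centralizer_iff.2 fun z hz => mem_centralizer_singleton_iff.1 (hcontains _ hd hz))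
  have hgA : g ∉ A := fun h => Q.not_dvd_index (hg.trans (index_dvd_of_le fun z hz =>
    mem_centralizer_singleton_iff.2 (mem_centralizer_iff.1 h z hz)))
  have hA1 : A.index ≠ 1 := fun h => hgA (index_eq_one.1 h ▸ mem_top g)
  have hpow : ∀ r : ℕ, r.Prime → r ∣ A.index → r = q := by
    intro r hr hrd
    by_contra hne
    haveI := Fact.mk hr
    obtain ⟨R⟩ := (inferInstance : Nonempty (Sylow r H))
    haveI hRn : (R : Subgroup H).Normal :=
      ((Group.isNilpotent_of_finite_tfae (G := H)).out 0 3 rfl rfl).mp inferInstance r inferInstance R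
    refine R.not_dvd_index (hrd.trans (index_dvd_of_le fun z hz => mem_centralizer_iff.2 fun w hw => ?_))
    obtain ⟨a, ha⟩ := IsPGroup.iff_card.1 Q.isPGroup'
    obtain ⟨b, hb⟩ := IsPGroup.iff_card.1 R.isPGroup'
    have hdis : Disjoint (Q : Subgroup H) (R : Subgroup H) := disjoint_of_coprime_natCard (by
      rw [ha, hb]; exact ((Nat.coprime_primes hq hr).2 (Ne.symm hne)).pow a b)
    exact commute_of_normal_of_disjoint _ _ hQn hRn hdis w z hw hz
  have hAq : q * q ≤ A.index := by
    obtain ⟨r, hr, hrd⟩ := Nat.exists_prime_and_dvd hA1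
    have hqd := hpow r hr hrd ▸ hrd
    obtain ⟨c, hc⟩ := hqd
    rw [hc]
    refine Nat.mul_le_mul_left q ?_
    rcases eq_or_ne c 1 with rfl | hc1
    · exfalso
      rw [mul_one] at hc
      obtain ⟨a, haQ, haA⟩ := SetLike.not_le_iff_exists.1 (fun h : (Q : Subgroup H) ≤ A =>
        Q.not_dvd_index ((dvd_of_eq hc.symm).trans (index_dvd_of_le h)))
      have hAa : A ≤ cent a := fun w hw =>
        mem_centralizer_singleton_iff.2 (mem_centralizer_iff.1 hw a haQ).symm
      rcases (Nat.dvd_prime hq).1 (hc ▸ index_dvd_of_le hAa) with h | h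
      · refine haA (mem_centralizer_iff.2 fun z hz => ?_)
        exact mem_centralizer_singleton_iff.1 ((index_eq_one.1 h).symm ▸ mem_top z : z ∈ cent a)
      · exact haA (eq_of_index_le hAa (hc.trans h.symm).le ▸ mem_centralizer_singleton_iff.2 rfl)
    · obtain ⟨r', hr', hrd'⟩ := Nat.exists_prime_and_dvd hc1
      exact (hpow r' hr' (hc ▸ hrd'.mul_left q)).symm.le.trans
        (Nat.le_of_dvd (Nat.pos_of_ne_zero fun h0 => index_ne_zero_of_finite (hc.trans (by rw [h0, mul_zero]))) hrd')
  have h1 := count_subgroup A q hout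
  have h3 := A.index_mul_card
  have h4 := Nat.mul_le_mul_right (Nat.card A) hAq
  rw [h3] at h4
  have h2 := Nat.mul_le_mul_left (q * q * p) h1
  have h5 := arith_pq hpq
  obtain ⟨q', rfl⟩ : ∃ q', q = q' + 1 := ⟨q - 1, by have := hq.one_lt; omega⟩
  rw [Nat.add_sub_cancel] at h2
  rw [show (q' + 1) * (q' + 1) + (q' + 1) - 1 = (q' + 1) * (q' + 1) + q' by omega] at h5
  refine Nat.le_of_mul_le_mul_left ?_ (show 0 < (q' + 1) * (q' + 1) * (q' + 1) by positivity)
  have h6 := Nat.mul_le_mul_left (p * q') h4
  have h7 := Nat.mul_le_mul_right (Nat.card H) h5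
  nlinarith

/-- All classes of size at most `p`. -/
theorem breadth_one {p : ℕ} [Fact p.Prime] (hprimes : ∀ q : ℕ, q.Prime → q ∣ Nat.card H → p ≤ q)
    (h : ∀ x : H, x ∉ center H → sz x = p) : Nat.card (_root_.commutator H) ≤ p := by
  have hp : p.Prime := Fact.out
  by_cases hall : ∀ x : H, x ∈ center H
  · have : _root_.commutator H = ⊥ := by
      rw [eq_bot_iff, commutator_def, commutator_le]
      intro a _ b _
      rw [mem_bot, commutatorElement_eq_one_iff_mul_comm]
      exact (mem_center_iff.1 (hall b) a)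
    rw [this, Subgroup.card_bot]
    exact hp.one_lt.le
  push Not at hall
  obtain ⟨x0, hx0⟩ := hall
  have hdvd : p ∣ Nat.card H := (dvd_of_eq (h x0 hx0).symm).trans (index_dvd_card _)
  have hmin : (Nat.card H).minFac = p := le_antisymm (Nat.minFac_le_of_dvd hp.two_le hdvd)
    (hprimes _ (Nat.minFac_prime fun h1 => hp.not_dvd_one (h1 ▸ hdvd)) (Nat.minFac_dvd _))
  have hcen : ∀ a b : H, ⁅a, b⁆ ∈ center H := by
    intro a b
    rw [mem_center_iff]
    intro x
    by_cases hx : x ∈ center H
    · exact (mem_center_iff.1 hx _).symm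
    haveI : (cent x).Normal := normal_of_index_eq_minFac_card (by rw [hmin]; exact h x hx)
    haveI := isCyclic_of_prime_card (α := H ⧸ cent x) (p := p) (h x hx)
    haveI := IsCyclic.isMulCommutative (α := H ⧸ cent x)
    have hmem : ⁅a, b⁆ ∈ cent x := by
      rw [← QuotientGroup.eq_one_iff, ← QuotientGroup.mk'_apply, map_commutatorElement,
        commutatorElement_eq_one_iff_mul_comm]
      exact IsMulCommutative.is_comm.comm _ _
    exact (mem_centralizer_singleton_iff.1 hmem).symm
  let φ : H → H →* H := fun x =>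
    { toFun := fun a => ⁅a, x⁆
      map_one' := commutatorElement_one_left x
      map_mul' := fun a b => by
        have hz := mem_center_iff.1 (hcen b x)
        rw [commutatorElement_def, commutatorElement_def, commutatorElement_def]
        rw [commutatorElement_def] at hz
        calc a * b * x * (a * b)⁻¹ * x⁻¹ = (a * (b * x * b⁻¹ * x⁻¹)) * (x * a⁻¹ * x⁻¹) := by group
          _ = ((b * x * b⁻¹ * x⁻¹) * a) * (x * a⁻¹ * x⁻¹) := by rw [hz a]
          _ = (b * x * b⁻¹ * x⁻¹) * (a * x * a⁻¹ * x⁻¹) := by group
          _ = _ := (hz _).symm }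
  have hrange : ∀ x ∉ center H, Nat.card (φ x).range = p := by
    intro x hx
    rw [← index_ker (φ x)]
    have : (φ x).ker = cent x := by
      ext a
      rw [MonoidHom.mem_ker, mem_centralizer_singleton_iff]
      exact commutatorElement_eq_one_iff_mul_comm
    rw [this]
    exact h x hx
  have heq : ∀ x y : H, x ∉ center H → y ∉ center H → ¬ Commute x y → (φ x).range = (φ y).range := by
    intro x y hx hy hxy
    have hne : ⁅y, x⁆ ≠ 1 := fun h1 => hxy (commutatorElement_eq_one_iff_mul_comm.1 h1).symm
    have hmemy : ⁅y, x⁆ ∈ (φ y).range := by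
      have h1 : ⁅x, y⁆ ∈ (φ y).range := ⟨x, rfl⟩
      simpa using inv_mem h1
    have key : ∀ R : Subgroup H, Nat.card R = p → ⁅y, x⁆ ∈ R → zpowers ⁅y, x⁆ = R := by
      intro R hR hmem
      refine eq_of_le_of_card_ge (zpowers_le.2 hmem) ?_
      rw [hR, Nat.card_zpowers]
      rcases (Nat.dvd_prime hp).1 (hR ▸ Subgroup.orderOf_dvd_natCard R hmem) with h1 | h1
      · exact absurd (orderOf_eq_one_iff.1 h1) hne
      · exact h1.ge
    rw [← key _ (hrange x hx) ⟨y, rfl⟩, key _ (hrange y hy) hmemy]
  have hsame : ∀ x, x ∉ center H → (φ x).range = (φ x0).range := by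
    intro x hx
    by_cases hc : Commute x x0
    · obtain ⟨w, hw1, hw2⟩ : ∃ w : H, ¬ Commute w x ∧ ¬ Commute w x0 := by
        by_contra hcon
        push Not at hcon
        obtain ⟨a, ha⟩ : ∃ a, ¬ Commute a x := by
          by_contra hh; push Not at hh; exact hx (mem_center_iff.2 fun a => hh a)
        obtain ⟨b, hb⟩ : ∃ b, ¬ Commute b x0 := by
          by_contra hh; push Not at hh; exact hx0 (mem_center_iff.2 fun a => hh a)
        have ha0 := hcon a ha
        have hbx : Commute b x := by
          by_contra hh; exact hb (hcon b hh)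
        have hab : ¬ Commute (a * b) x := fun hh => ha (by simpa using hh.mul_left hbx.inv_left)
        exact hb (by simpa using (ha0.inv_left).mul_left (hcon _ hab))
      have hwc : w ∉ center H := fun hh => hw1 (mem_center_iff.1 hh x).symm
      exact (heq x w hx hwc fun hh => hw1 hh.symm).trans (heq w x0 hwc hx0 hw2)
    · exact heq x x0 hx hx0 hc
  have hle : _root_.commutator H ≤ (φ x0).range := by
    rw [commutator_def, commutator_le]
    intro a _ b _
    by_cases hb : b ∈ center H
    · rw [commutatorElement_eq_one_iff_mul_comm.2 (mem_center_iff.1 hb a)]; exact one_mem _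
    · rw [← hsame b hb]; exact ⟨a, rfl⟩
  exact (Nat.le_of_dvd Nat.card_pos (card_dvd_of_le hle)).trans (hrange x0 hx0).le

/-- A nilpotent group with many classes has a small derived subgroup. -/
theorem card_commutator_le_of_many [Group.IsNilpotent H] {p : ℕ} (hp : p.Prime)
    (hprimes : ∀ q : ℕ, q.Prime → q ∣ Nat.card H → p ≤ q)
    (hmany : Nat.card H < p * Nat.card (ConjClasses H)) : Nat.card (_root_.commutator H) ≤ p := by
  classical
  haveI := Fact.mk hp
  have hpp : ∀ x : H, ∀ r : ℕ, r.Prime → r ∣ sz x → r = p := by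
    intro x r hr hrd
    haveI := Fact.mk hr
    rcases lt_or_eq_of_le (hprimes r hr (hrd.trans (index_dvd_card _))) with h | h
    · exact absurd (no_large_prime h hrd) (not_le.2 hmany)
    · exact h.symm
  by_cases hb : ∃ g : H, p * p ≤ sz g
  · exfalso
    obtain ⟨g, hg⟩ := hb
    haveI := Fintype.ofFinite H
    have hg1 : g ∉ center H := fun h => by
      rw [TwoLargest.sz_eq_one_iff.2 h] at hg
      nlinarith [hp.two_le]
    set Z := center H
    set Big := Finset.univ.filter fun x : H => p * p ≤ sz x with hBigdef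
    have hszmul : ∀ (x : H), ∀ z ∈ Z, sz (x * z) = sz x := fun x z hz => by
      unfold ClassGraph.sz
      congr 1
      ext y
      simp only [mem_centralizer_singleton_iff]
      have e : y * z = z * y := mem_center_iff.1 hz y
      constructor
      · intro hh
        refine mul_right_cancel (b := z) ?_
        calc y * x * z = y * (x * z) := mul_assoc _ _ _
          _ = x * z * y := hh
          _ = x * y * z := by rw [mul_assoc, ← e, mul_assoc]
      · intro hh
        calc y * (x * z) = (y * x) * z := (mul_assoc _ _ _).symm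
          _ = x * (y * z) := by rw [hh, mul_assoc]
          _ = x * z * y := by rw [e, mul_assoc]
    have hgi : ∀ i, 1 ≤ i → i < p → sz (g ^ i) = sz g := by
      intro i h1 h2
      have hco : i.Coprime (orderOf g) := Nat.coprime_of_dvd fun s hs hs1 hs2 => by
        have := hprimes s hs (hs2.trans (orderOf_dvd_natCard g))
        have := Nat.le_of_dvd (by omega) hs1
        omega
      obtain ⟨m, hm⟩ := exists_pow_eq_self_of_coprime hco
      refine Nat.dvd_antisymm (index_dvd_of_le fun y hy => ?_) (index_dvd_of_le fun y hy => ?_)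
      · exact mem_centralizer_singleton_iff.2 ((show Commute y g from mem_centralizer_singleton_iff.1 hy).pow_right i).eq
      · exact mem_centralizer_singleton_iff.2
          (hm ▸ ((show Commute y (g ^ i) from mem_centralizer_singleton_iff.1 hy).pow_right m)).eq
    set ZF := Finset.univ.filter fun x : H => x ∈ Z
    have hZF : ZF.card = Nat.card Z := by rw [Nat.card_eq_fintype_card, Fintype.card_subtype]
    let S : ℕ → Finset H := fun i => ZF.image fun z => g ^ i * z
    have hS : ∀ {i x}, x ∈ S i ↔ ∃ z ∈ Z, g ^ i * z = x := by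
      intro i x; simp only [S, ZF, Finset.mem_image, Finset.mem_filter, Finset.mem_univ, true_and]
    have hSc : ∀ i, (S i).card = Nat.card Z := fun i => by
      rw [Finset.card_image_of_injective _ (fun a b h => mul_left_cancel h), hZF]
    have hdisj : ∀ i, i < p → ∀ j, j < p → i < j → Disjoint (S i) (S j) := by
      intro i hi j hj hij
      refine Finset.disjoint_left.2 fun x hxi hxj => hg1 ?_
      obtain ⟨z, hz, rfl⟩ := hS.1 hxi
      obtain ⟨z', hz', he⟩ := hS.1 hxj
      have h1 : g ^ (j - i) ∈ Z := by
        have : g ^ (j - i) = z * z'⁻¹ := by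
          rw [eq_mul_inv_iff_mul_eq]
          refine mul_left_cancel (a := g ^ i) ?_
          rw [← mul_assoc, ← pow_add, show i + (j - i) = j by omega, he]
        rw [this]; exact mul_mem hz (inv_mem hz')
      have h2 := hgi (j - i) (by omega) (by omega)
      rw [TwoLargest.sz_eq_one_iff.2 h1] at h2
      exact TwoLargest.sz_eq_one_iff.1 h2.symm
    have hdisj' : ∀ i, i < p → ∀ j, j < p → i ≠ j → Disjoint (S i) (S j) := fun i hi j hj hne =>
      (lt_or_gt_of_ne hne).elim (hdisj i hi j hj) fun h => (hdisj j hj i hi h).symm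
    set U := (Finset.Ico 1 p).biUnion S
    have hUcard : U.card = (p - 1) * Nat.card Z := by
      rw [Finset.card_biUnion fun i hi j hj hne =>
        hdisj' i (Finset.mem_Ico.1 hi).2 j (Finset.mem_Ico.1 hj).2 hne]
      simp [hSc]
    have hUBig : U ⊆ Big := by
      intro x hx
      obtain ⟨i, hi, hxi⟩ := Finset.mem_biUnion.1 hx
      obtain ⟨z, hz, rfl⟩ := hS.1 hxi
      refine Finset.mem_filter.2 ⟨Finset.mem_univ _, ?_⟩
      rw [hszmul _ z hz, hgi i (Finset.mem_Ico.1 hi).1 (Finset.mem_Ico.1 hi).2]
      exact hg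
    obtain ⟨y, hyB, hyU⟩ : ∃ y ∈ Big, y ∉ U := by
      by_contra hcon
      push Not at hcon
      set T := (Finset.range p).biUnion S
      have hsmall : ∀ x, x ∉ T → cent g ≤ cent x := by
        intro x hxT
        have hx1 : sz x ≤ p := by
          by_contra h1
          have hd : p * p ≤ sz x := sq_le_of_gt (hpp x) (not_le.1 h1)
          obtain ⟨i, hi, hxi⟩ := Finset.mem_biUnion.1 (hcon x (Finset.mem_filter.2 ⟨Finset.mem_univ _, hd⟩))
          exact hxT (Finset.mem_biUnion.2 ⟨i, Finset.mem_range.2 (Finset.mem_Ico.1 hi).2, hxi⟩)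
        have hx2 : sz (x * g) ≤ p := by
          by_contra h1
          have hd : p * p ≤ sz (x * g) := sq_le_of_gt (hpp _) (not_le.1 h1)
          obtain ⟨i, hi, hxi⟩ := Finset.mem_biUnion.1 (hcon _ (Finset.mem_filter.2 ⟨Finset.mem_univ _, hd⟩))
          obtain ⟨z, hz, he⟩ := hS.1 hxi
          obtain ⟨hi1, hi2⟩ := Finset.mem_Ico.1 hi
          refine hxT (Finset.mem_biUnion.2 ⟨i - 1, Finset.mem_range.2 (by omega), hS.2 ⟨z, hz, ?_⟩⟩)
          have e : g * z = z * g := mem_center_iff.1 hz g
          refine mul_right_cancel (b := g) ?_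
          rw [mul_assoc, ← e, ← mul_assoc, ← pow_succ, show i - 1 + 1 = i by omega, he]
        have hle : cent x ⊓ cent (x * g) ≤ cent g := fun y hy => by
          have := (show Commute y x from mem_centralizer_singleton_iff.1 hy.1).inv_right.mul_right
            (show Commute y (x * g) from mem_centralizer_singleton_iff.1 hy.2)
          rw [inv_mul_cancel_left] at this
          exact mem_centralizer_singleton_iff.2 this.eq
        have heq : cent x ⊓ cent (x * g) = cent g := by
          refine eq_of_index_le hle ?_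
          calc (cent x ⊓ cent (x * g)).index ≤ (cent x).index * (cent (x * g)).index := index_inf_le
            _ ≤ p * p := Nat.mul_le_mul hx1 hx2
            _ ≤ _ := hg
        exact heq ▸ inf_le_left
      have hTc : T.card ≤ p * Nat.card Z := by
        refine Finset.card_biUnion_le.trans ?_
        simp [hSc]
      have hbig : 2 * T.card < Nat.card H := by
        have h1 := center_index_sq hprimes hg1
        have h2 := Z.index_mul_card
        have h3 := Nat.mul_le_mul_right (Nat.card Z) ((Nat.mul_le_mul_left p hg).trans h1)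
        rw [h2] at h3
        have hZpos : 0 < Nat.card Z := Nat.card_pos
        have h4 : 2 * 1 < p * p := by nlinarith [hp.two_le]
        have h5 := Nat.mul_lt_mul_of_pos_right h4 (Nat.mul_pos hp.pos hZpos)
        nlinarith
      have htop : Subgroup.closure {x : H | x ∉ T} = ⊤ := by
        by_contra hne
        obtain ⟨s, hs, hsd⟩ := Nat.exists_prime_and_dvd (fun h => hne (index_eq_one.1 h) :
          (Subgroup.closure {x : H | x ∉ T}).index ≠ 1)
        have h2 : 2 ≤ (Subgroup.closure {x : H | x ∉ T}).index :=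
          hs.two_le.trans (Nat.le_of_dvd (Nat.pos_of_ne_zero index_ne_zero_of_finite) hsd)
        have h3 : (Finset.univ \ T).card ≤ Nat.card (Subgroup.closure {x : H | x ∉ T}) := by
          rw [Nat.card_eq_fintype_card, Fintype.card_subtype]
          exact Finset.card_le_card fun x hx => Finset.mem_filter.2
            ⟨Finset.mem_univ _, subset_closure (Finset.mem_sdiff.1 hx).2⟩
        rw [Finset.card_sdiff_of_subset (Finset.subset_univ _), Finset.card_univ, ← Nat.card_eq_fintype_card] at h3
        have h4 := (Subgroup.closure {x : H | x ∉ T}).index_mul_card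
        have h5 := Nat.mul_le_mul_right (Nat.card (Subgroup.closure {x : H | x ∉ T})) h2
        omega
      refine hg1 (mem_center_iff.2 fun a => ?_)
      have ha : a ∈ cent g := by
        have : Subgroup.closure {x : H | x ∉ T} ≤ cent g := (closure_le _).2 fun x hx => by
          exact mem_centralizer_singleton_iff.2 (mem_centralizer_singleton_iff.1
            (hsmall x hx (mem_centralizer_singleton_iff.2 rfl : g ∈ cent g))).symm
        exact this (htop ▸ mem_top a)
      exact mem_centralizer_singleton_iff.1 ha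
    have hpZ : p * Nat.card Z ≤ Big.card := by
      let Y := ZF.image fun z => y * z
      have hYc : Y.card = Nat.card Z := by
        rw [Finset.card_image_of_injective _ (fun a b h => mul_left_cancel h), hZF]
      have hYB : Y ⊆ Big := by
        intro x hx
        obtain ⟨z, hz, rfl⟩ := Finset.mem_image.1 hx
        exact Finset.mem_filter.2 ⟨Finset.mem_univ _, (hszmul y z (Finset.mem_filter.1 hz).2).symm ▸ (Finset.mem_filter.1 hyB).2⟩
      have hd : Disjoint U Y := by
        refine Finset.disjoint_left.2 fun x hxU hxY => hyU ?_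
        obtain ⟨z, hz, rfl⟩ := Finset.mem_image.1 hxY
        obtain ⟨i, hi, hxi⟩ := Finset.mem_biUnion.1 hxU
        obtain ⟨z', hz', he⟩ := hS.1 hxi
        refine Finset.mem_biUnion.2 ⟨i, hi, hS.2 ⟨z' * z⁻¹, mul_mem hz' (inv_mem (Finset.mem_filter.1 hz).2), ?_⟩⟩
        rw [← mul_assoc, he, mul_inv_cancel_right]
      have := Finset.card_le_card (Finset.union_subset hUBig hYB)
      rw [Finset.card_union_of_disjoint hd, hUcard, hYc] at this
      calc p * Nat.card Z = (p - 1) * Nat.card Z + Nat.card Z := by
            conv_lhs => rw [show p = p - 1 + 1 by have := hp.pos; omega, add_mul, one_mul]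
        _ ≤ _ := this
    let w : H → ℕ := fun x => if p * p ≤ sz x then 1 else if x ∈ Z then p * p else p
    have hw := weighted w (p * p) fun a b hab => by
      have hsab : sz a = sz b := by
        obtain ⟨c, rfl⟩ := isConj_iff.1 hab
        exact (ClassGraph.sz_conj c a).symm
      rw [hsab]
      simp only [w]
      split_ifs with h1 h2
      · simpa using h1
      · exact Nat.le_mul_of_pos_left _ (ClassGraph.sz_pos b)
      · exact Nat.mul_le_mul_right p (sz_ge hprimes h2)
    have hsum : ∑ x : H, w x + (p - 1) * Big.card ≤ p * Nat.card H + (p * p - p) * Nat.card Z := by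
      have e1 : ∀ x : H, w x + (if p * p ≤ sz x then p - 1 else 0) ≤ p + (if x ∈ Z then p * p - p else 0) := by
        intro x
        simp only [w]
        have := hp.two_le
        have : p ≤ p * p := Nat.le_mul_self p
        split_ifs <;> omega
      have e2 := Finset.sum_le_sum (s := Finset.univ) fun x _ => e1 x
      rw [Finset.sum_add_distrib, Finset.sum_add_distrib, ← Finset.sum_filter, ← Finset.sum_filter,
        Finset.sum_const, Finset.sum_const, Finset.sum_const, smul_eq_mul, smul_eq_mul, smul_eq_mul,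
        Finset.card_univ, ← Nat.card_eq_fintype_card, hZF] at e2
      rw [hBigdef]
      rw [mul_comm (p - 1), mul_comm p, mul_comm (p * p - p)]
      exact (mul_comm (Nat.card H) p) ▸ e2
    have h8 := Nat.mul_le_mul_left (p - 1) hpZ
    have h9 : (p * p - p) = (p - 1) * p := by rw [Nat.sub_mul, one_mul]
    rw [h9, mul_assoc] at hsum
    have h10 : p * p * Nat.card (ConjClasses H) ≤ p * Nat.card H := by omega
    rw [mul_assoc] at h10
    have := Nat.le_of_mul_le_mul_left h10 hp.pos
    omega
  · push Not at hb
    refine breadth_one hprimes fun x hx => le_antisymm ?_ (sz_ge hprimes hx)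
    by_contra h
    exact absurd (hb x) (not_lt.2 (sq_le_of_gt (hpp x) (not_le.1 h)))

end Cfsg.Agent.PiClassCount
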