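import Cfsg.Agent.Lib.PiClassCount.Main
import Cfsg.Agent.Lib.PiClassCount.Small
import Cfsg.Agent.EqLemmas

/-
Many classes of `π`-elements: the statements with a set of primes.
-/

set_option autoImplicit false
set_option linter.style.haveILetI false

open Subgroup

namespace Cfsg.Agent.PiClassCount

open Cfsg.Agent.S4106 (PiClass)

universe u

theorem exists_hall_many {G : Type u} [Group G] [Finite G] (π : Set ℕ) (hπ : ∀ q ∈ π, q.Prime) (p : ℕ)
    (hmin : ∀ q ∈ π, p ≤ q) (m : ℕ) (hm : m ∣ Nat.card G) (hmπ : ∀ q : ℕ, q.Prime → q ∣ m → q ∈ π)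
    (hm' : ∀ q ∈ π, ¬ q ∣ Nat.card G / m) (k' : ℕ)
    (hk : k' = Nat.card {C : ConjClasses G // ∀ q : ℕ, q.Prime → (∃ g : G, ConjClasses.mk g = C ∧ q ∣ orderOf g) → q ∈ π})
    (hmany : m < p * k') :
    ∃ H : Subgroup G, Group.IsNilpotent H ∧ Nat.card H = m ∧ k' ≤ Nat.card (ConjClasses H) ∧
      ∀ q : ℕ, q.Prime → q ∣ Nat.card H → p ≤ q := by
  classical
  set s : Finset ℕ := (Nat.card G).primeFactors.filter (fun q => q ∈ π) with hs
  have hsp : ∀ q ∈ s, q.Prime := fun q hq => Nat.prime_of_mem_primeFactors (Finset.mem_filter.1 hq).1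
  have hsπ : ∀ q ∈ s, q ∈ π := fun q hq => (Finset.mem_filter.1 hq).2
  have hpart : part s G = m := by
    refine Nat.dvd_antisymm ?_ ?_
    · refine Finset.prod_dvd_of_isRelPrime ?_ fun q hq => ?_
      · intro a ha b hb hab
        exact Nat.coprime_iff_isRelPrime.1 (((Nat.coprime_primes (hsp a ha) (hsp b hb)).2 hab).pow _ _)
      · have h1 : q ^ (Nat.card G).factorization q ∣ m * (Nat.card G / m) := by
          rw [Nat.mul_div_cancel' hm]; exact Nat.ordProj_dvd _ _
        exact ((((hsp q hq).coprime_iff_not_dvd.2 (hm' q (hsπ q hq)))).pow_left _).dvd_of_dvd_mul_right h1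
    · have h1 : m ∣ part s G * (Nat.card G / part s G) := by
        rw [Nat.mul_div_cancel' (part_dvd hsp)]; exact hm
      refine Nat.Coprime.dvd_of_dvd_mul_right (Nat.coprime_of_dvd fun r hr hrm hrd => ?_) h1
      have hrs : r ∈ s := Finset.mem_filter.2
        ⟨Nat.mem_primeFactors.2 ⟨hr, hrm.trans hm, Nat.card_pos.ne'⟩, hmπ r hr hrm⟩
      have h2 : r ^ ((Nat.card G).factorization r + 1) ∣ Nat.card G := by
        rw [pow_succ]
        exact (Nat.mul_dvd_mul (Finset.dvd_prod_of_mem _ hrs) hrd).trans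
          (dvd_of_eq (Nat.mul_div_cancel' (part_dvd hsp)))
      have := (hr.pow_dvd_iff_le_factorization Nat.card_pos.ne').1 h2
      omega
  have hk' : k' ≤ k s G := by
    rw [hk]
    refine Nat.card_le_card_of_injective (fun C => (⟨C.1, ?_⟩ : PiClass s G)) ?_
    · intro g hg q hq
      obtain ⟨hq1, hq2, -⟩ := Nat.mem_primeFactors.1 hq
      exact Finset.mem_filter.2 ⟨Nat.mem_primeFactors.2 ⟨hq1, hq2.trans (orderOf_dvd_natCard g), Nat.card_pos.ne'⟩,
        C.2 q hq1 ⟨g, hg, hq2⟩⟩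
    · intro C D h
      exact Subtype.ext (congrArg (fun z : PiClass s G => z.1) h)
  obtain ⟨H, hH, hcard⟩ := exists_nilpotent_hall s G p hsp (fun q hq => hmin q (hsπ q hq))
    (hpart ▸ hmany.trans_le (Nat.mul_le_mul_left _ hk'))
  refine ⟨H, hH, hcard.trans hpart, hk'.trans ((k_le_image hH (isPiHall_of_card hsp hcard)).trans ?_),
    fun q hq hd => hmin q (hsπ q (prime_dvd_part hsp hq (hcard ▸ hd)))⟩
  rw [← Nat.card_coe_set_eq]
  refine Nat.card_le_card_of_surjective (fun C : ConjClasses H =>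
    (⟨ConjClasses.map H.subtype C, ?_⟩ : (ConjClasses.mk '' (H : Set G) : Set _))) ?_
  · obtain ⟨h, rfl⟩ := ConjClasses.mk_surjective C
    exact ⟨h, h.2, rfl⟩
  · rintro ⟨_, h, hh, rfl⟩
    exact ⟨ConjClasses.mk ⟨h, hh⟩, rfl⟩

end Cfsg.Agent.PiClassCount
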